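import Cfsg.Agent.D4Fold.Eval

/-!
The finite checks for folding along a diagram symmetry of order three, with signs.
-/

set_option autoImplicit false

namespace CfsgLib.D4Fold

open Cfsg.Lie CfsgLib.Chevalley CfsgLib.E6Fold

/-- The tables of a folding of order three. -/
structure Tables where
  /-- the node permutation -/
  nodeL : List ℕ
  /-- the root permutation -/
  rootL : List ℕ
  /-- the signs of the symmetry on the root vectors -/
  sgnL : List ℤ
  /-- the root of the folded datum below a root -/
  foldL : List ℕ
  /-- the coefficient of a root vector in the folded root vector -/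
  coefL : List ℤ
  /-- where the fundamental coroots go -/
  nodeFold : List ℕ
  /-- a representative of each folded node -/
  nodeRep : List ℕ
  /-- a root over each folded root -/
  rootRep : List ℕ
  /-- a reduced word for the longest folded element -/
  word : List ℕ
  /-- twice the inverse Cartan matrix -/
  cartInv : List (List ℤ)

namespace Tables

variable (T : Tables) (D E : ChevalleyDatum)

/-- The node permutation. -/
def node (i : ℕ) : ℕ := T.nodeL.getD i 0

/-- The root permutation. -/
def root (r : ℕ) : ℕ := T.rootL.getD r 0

/-- The sign at a root. -/
def sgn3 (r : ℕ) : ℤ := T.sgnL.getD r 0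

/-- The folded root. -/
def fold (r : ℕ) : ℕ := T.foldL.getD r 0

/-- The coefficient of a root. -/
def coef (r : ℕ) : ℤ := T.coefL.getD r 0

/-- The matrix of the symmetry. -/
def permMat : SMat :=
  SMat.ofEntries (((List.range D.rank).map fun i => (T.node i, i, (1 : ℤ))) ++
    (List.range D.nroots).map fun r => (D.rank + T.root r, D.rank + r, T.sgn3 r))

/-- The matrix of the inverse symmetry. -/
def permInv : SMat :=
  SMat.ofEntries (((List.range D.rank).map fun i => (i, T.node i, (1 : ℤ))) ++
    (List.range D.nroots).map fun r => (D.rank + r, D.rank + T.root r, T.sgn3 r))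

/-- The folding matrix. -/
def foldMat : SMat :=
  SMat.ofEntries (((List.range D.rank).map fun i => (i, T.nodeFold.getD i 0, (1 : ℤ))) ++
    (List.range D.nroots).map fun r => (D.rank + r, E.rank + T.fold r, T.coef r))

/-- A left inverse of the folding matrix. -/
def selMat : SMat :=
  SMat.ofEntries (((List.range E.rank).map fun k => (k, T.nodeRep.getD k 0, (1 : ℤ))) ++
    (List.range E.nroots).map fun s =>
      (E.rank + s, D.rank + T.rootRep.getD s 0, T.coef (T.rootRep.getD s 0)))

/-- The orbit of a root, as a word with coefficients. -/
def orbW (r : ℕ) : List (ℕ × ℤ) :=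
  bif T.root r == r then [(r, T.coef r)]
  else [(r, T.coef r), (T.root r, T.coef r * T.sgn3 r),
    (T.root (T.root r), T.coef r * (T.sgn3 r * T.sgn3 (T.root r)))]

/-- The two roots commute. -/
def commOK (r s : ℕ) : Bool := (s != r) && (s != opp D r) && (D.commTerms r s).isEmpty

/-- The permutations are compatible, of order three, and the signs behave. -/
def chkPerm : Bool :=
  ((List.range D.nroots).all fun r =>
    decide (T.root r < D.nroots) && (T.root (T.root (T.root r)) == r) &&
    (T.root (opp D r) == opp D (T.root r)) &&
    (decide (half D ≤ r) == decide (half D ≤ T.root r)) &&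
    ((T.sgn3 r).natAbs == 1) && (T.sgn3 (opp D r) == T.sgn3 r) &&
    (bif T.root r == r then T.sgn3 r == 1
      else T.sgn3 r * (T.sgn3 (T.root r) * T.sgn3 (T.root (T.root r))) == 1) &&
    ((List.range D.rank).all fun i => T.root (reflT D i r) == reflT D (T.node i) (T.root r))) &&
  ((List.range D.rank).all fun i =>
    decide (T.node i < D.rank) && (T.node (T.node (T.node i)) == i) &&
    (T.root (D.simple i) == D.simple (T.node i)) && (T.sgn3 (D.simple i) == 1) &&
    ((T.node i == i) ||
      ((T.node (T.node i) != i) &&
        (reflT D i (D.simple (T.node i)) == D.simple (T.node i)) &&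
        (reflT D (T.node i) (D.simple i) == D.simple i) &&
        commOK D (D.simple i) (D.simple (T.node i)) &&
        commOK D (D.simple i) (opp D (D.simple (T.node i))) &&
        commOK D (opp D (D.simple i)) (D.simple (T.node i)) &&
        commOK D (opp D (D.simple i)) (opp D (D.simple (T.node i))) &&
        ((List.range D.nroots).all fun r =>
          reflT D i (reflT D (T.node i) r) == reflT D (T.node i) (reflT D i r)))))

/-- A root commutes with its two images. -/
def chkCommute : Bool :=
  (List.range D.nroots).all fun r => (T.root r == r) ||
    (commOK D r (T.root r) && commOK D r (T.root (T.root r)))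

/-- The symmetry matrix moves the root elements. -/
def chkSymm : Bool :=
  ((List.range D.nroots).all fun r =>
    chkInterC D D (T.permMat D) [(T.root r, T.sgn3 r)] r) &&
  SMat.bounded (D.rank + D.nroots) (T.permMat D) &&
  SMat.bounded (D.rank + D.nroots) (T.permInv D) &&
  SMat.eqB (SMat.mul (T.permMat D) (T.permInv D)) (oneSMat D) &&
  SMat.eqB (SMat.mul (T.permInv D) (T.permMat D)) (oneSMat D)

/-- The smallest root of its orbit. -/
def isMin (r : ℕ) : Bool := decide (r ≤ T.root r) && decide (r ≤ T.root (T.root r))

/-- The folding matrix intertwines, and its columns are led by the smallest root of the orbit. -/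
def chkFold : Bool :=
  ((List.range D.nroots).all fun r =>
    chkInterC D E (T.foldMat D E) (T.orbW r) (T.fold r) && ((T.coef r).natAbs == 1)) &&
  ((List.range E.nroots).all fun s =>
    decide (T.rootRep.getD s 0 < D.nroots) && (T.fold (T.rootRep.getD s 0) == s)) &&
  SMat.bounded (D.rank + D.nroots) (T.selMat D E) &&
  SMat.eqB (SMat.mul (T.selMat D E) (T.foldMat D E)) (oneSMat E) &&
  ((List.range D.nroots).all fun r => !(T.isMin r) ||
    ((SMat.den (T.foldMat D E) (D.rank + r) (E.rank + T.fold r) == T.coef r) &&
      (List.range (D.rank + D.nroots)).all fun a => (a == D.rank + r) || decide (D.rank + r < a) ||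
        (SMat.den (T.foldMat D E) a (E.rank + T.fold r) == 0)))

/-- The Cartan matrix inverts up to the factor two. -/
def chkCart : Bool :=
  (List.range D.rank).all fun k => (List.range D.rank).all fun l =>
    (((List.finRange D.rank).map fun j : Fin D.rank =>
      D.cartan k (D.simple j) * (T.cartInv.getD j []).getD l 0).sum ==
        bif k == l then 2 else 0)

/-- One folded reflection on a table of images. -/
def stepQ (q : List ℕ) (i : ℕ) : List ℕ :=
  (List.range D.nroots).map fun r =>
    q.getD (bif T.node i == i then reflT D i r
      else reflT D (T.node (T.node i)) (reflT D (T.node i) (reflT D i r))) 0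

/-- The word takes all positive roots to negative ones, upwards. -/
def chkChain : List ℕ → List ℕ → Bool
  | [], q => (List.range' (half D) (D.nroots - half D)).all fun r => decide (q.getD r 0 < half D)
  | i :: L, q => decide (i < D.rank) && decide (half D ≤ q.getD (D.simple i) 0) &&
      decide (half D ≤ q.getD (D.simple (T.node i)) 0) &&
      decide (half D ≤ q.getD (D.simple (T.node (T.node i))) 0) && chkChain L (T.stepQ D q i)

/-- Everything. -/
structure Valid : Prop where
  perm : T.chkPerm D = true
  commute : T.chkCommute D = true
  symm : T.chkSymm D = true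
  folded : T.chkFold D E = true
  cart : T.chkCart D = true
  chain : T.chkChain D T.word (List.range D.nroots) = true

end Tables

end CfsgLib.D4Fold
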