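import Cfsg.Agent.D4Fold.Checks
import Cfsg.Prelude.Def_ChevD4
import Cfsg.Prelude.Def_ChevG2
import Cfsg.Prelude.Def_ChevAutomorphisms

/-! The folding of `D4` onto `G2`. -/

set_option autoImplicit false

namespace CfsgLib.D4Fold

open Cfsg.Lie CfsgLib.Chevalley

/-- The folding tables of `D4`. -/
def d4Tables : Tables where
  nodeL := [2, 1, 3, 0]
  rootL := [0, 1, 6, 2, 7, 10, 3, 8, 4, 9, 11, 5, 18, 12, 14, 19, 15, 20, 13, 16, 21, 17, 22, 23]
  sgnL := [1, 1, -1, 1, -1, 1, -1, 1, -1, 1, 1, 1, 1, 1, 1, -1, 1, -1, 1, -1, 1, -1, 1, 1]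
  foldL := [0, 1, 2, 2, 3, 4, 2, 3, 3, 5, 4, 4, 7, 7, 6, 8, 8, 9, 7, 8, 9, 9, 10, 11]
  coefL := [-1, -1, -1, -1, 1, 1, 1, -1, -1, 1, 1, 1, 1, 1, 1, -1, -1, 1, 1, 1, -1, -1, -1, -1]
  nodeFold := [0, 1, 0, 0]
  nodeRep := [0, 1]
  rootRep := [0, 1, 2, 4, 5, 9, 14, 12, 15, 17, 22, 23]
  word := [1, 0, 1, 0, 1, 0]
  cartInv := [[2, 2, 1, 1], [2, 4, 2, 2], [1, 2, 2, 1], [1, 2, 1, 2]]

theorem d4_perm : d4Tables.chkPerm chevD4 = true := by decide +kernel
theorem d4_commute : d4Tables.chkCommute chevD4 = true := by decide +kernel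
theorem d4_symm : d4Tables.chkSymm chevD4 = true := by decide +kernel
theorem d4_fold : d4Tables.chkFold chevD4 chevG2 = true := by decide +kernel
theorem d4_cart : d4Tables.chkCart chevD4 = true := by decide +kernel
theorem d4_chain : d4Tables.chkChain chevD4 d4Tables.word (List.range chevD4.nroots) = true := by
  decide +kernel

theorem d4_valid : d4Tables.Valid chevD4 chevG2 :=
  ⟨d4_perm, d4_commute, d4_symm, d4_fold, d4_cart, d4_chain⟩

/-- The lists of length `k` over `0..3` without repetition. -/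
def injLists : ℕ → List (List ℕ)
  | 0 => [[]]
  | k + 1 => (injLists k).flatMap fun L =>
      ((List.range 4).filter fun a => !L.contains a).map (· :: L)

theorem mem_injLists : ∀ {L : List ℕ}, L.Nodup → (∀ a ∈ L, a < 4) → L ∈ injLists L.length
  | [], _, _ => by simp [injLists]
  | a :: L, hn, hb => by
    obtain ⟨ha, hn'⟩ := List.nodup_cons.1 hn
    simp only [List.length_cons, injLists, List.mem_flatMap, List.mem_map, List.mem_filter,
      List.mem_range]
    exact ⟨L, mem_injLists hn' fun b hb' => hb b (by simp [hb']), a,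
      ⟨hb a (by simp), by simpa using ha⟩, rfl⟩

/-- The diagram symmetries of `D4` are the two rotations or square to the identity, and all its
roots have one length. -/
def chkDiagram : Bool :=
  ((injLists 4).all fun L =>
    !((List.range 4).all fun i => (List.range 4).all fun j => (i == j) ||
        (chevD4.bonds (L.getD i 0) (L.getD j 0) == chevD4.bonds i j)) ||
      ((List.range 4).all fun i => L.getD (L.getD i 0) 0 == i) ||
      (L == [2, 1, 3, 0]) || (L == [3, 1, 0, 2])) &&
  (List.range 4).all fun i => !chevD4.isLong (chevD4.simple i)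

theorem d4_diagram : chkDiagram = true := by decide +kernel

end CfsgLib.D4Fold
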