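import Cfsg.Agent.E6Fold.Eval

/-!
Exact identities between polynomial matrices given by lists of sparse integer matrices.
-/

set_option autoImplicit false

namespace CfsgLib.D4Fold

open Cfsg.Lie CfsgLib.Chevalley CfsgLib.E6Fold
open scoped MatrixGroups

/-- All entries of the list vanish. -/
def isZeroL (L : List SMat) : Bool := L.all SMat.isZero

/-- The two polynomial matrices are equal. -/
def eqL (L M : List SMat) : Bool := isZeroL (addL L (M.map (SMat.smul (-1))))

/-- The coefficients of `x_r(c t)`. -/
def xListC (D : ChevalleyDatum) (r : ℕ) (c : ℤ) : List SMat :=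
  [oneSMat D, SMat.smul c (eMat D r 1), SMat.smul (c * c) (eMat D r 2),
    SMat.smul (c * c * c) (eMat D r 3)]

variable {F : Type*} [Field F]

theorem dMat_smul (D E : ChevalleyDatum) (c : ℤ) (A : SMat) :
    dMat F D E (SMat.smul c A) = (c : F) • dMat F D E A := by
  ext a b; simp [rMat, SMat.den_smul]

theorem evalL_smul (D E : ChevalleyDatum) (t : F) (c : ℤ) :
    ∀ L : List SMat, evalL F D E t (L.map (SMat.smul c)) = (c : F) • evalL F D E t L
  | [] => by simp [evalL]
  | A :: L => by simp [evalL, dMat_smul, evalL_smul D E t c L, smul_comm t (c : F)]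

theorem evalL_isZero (D E : ChevalleyDatum) (t : F) :
    ∀ {L : List SMat}, isZeroL L = true → evalL F D E t L = 0
  | [], _ => rfl
  | A :: L, h => by
    simp only [isZeroL, List.all_cons, Bool.and_eq_true] at h
    have hA : dMat F D E A = 0 := by
      ext a b
      simp [rMat, SMat.den_eq_zero_of_isZero h.1]
    simp [evalL, hA, evalL_isZero D E t (L := L) h.2]

theorem evalL_eq {D E : ChevalleyDatum} (t : F) {L M : List SMat} (h : eqL L M = true) :
    evalL F D E t L = evalL F D E t M := by
  have := evalL_isZero (F := F) D E t h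
  rwa [evalL_addL, evalL_smul, Int.cast_neg, Int.cast_one, neg_one_smul, add_neg_eq_zero] at this

theorem dMat_eq {D E : ChevalleyDatum} {A B : SMat} (h : SMat.eqB A B = true) :
    dMat F D E A = dMat F D E B := by
  ext a b
  simp [rMat, SMat.den_eq_of_eqB h]

theorem evalL_xListC (D : ChevalleyDatum) (r : Root D) (c : ℤ) (t : F) :
    evalL F D D t (xListC D r c) = xR D F r ((c : F) * t) := by
  simp only [evalL, xListC, dMat_one, dMat_smul, dMat_eMat D r (show (1 : ℕ) ≠ 0 by omega),
    dMat_eMat D r (show (2 : ℕ) ≠ 0 by omega), dMat_eMat D r (show (3 : ℕ) ≠ 0 by omega), xR,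
    Finset.sum_range_succ, Finset.sum_range_zero, zero_add, E_zero, smul_zero, add_zero, smul_add,
    smul_smul, Matrix.map_one (Int.cast : ℤ → F) Int.cast_zero Int.cast_one, pow_zero, one_smul,
    pow_one, Int.cast_mul]
  rw [add_assoc, add_assoc]
  congr 2
  · rw [mul_comm]
  · congr 1 <;> congr 1 <;> ring

/-- The product of the scaled root elements of the word as a polynomial matrix. -/
def wordC (D : ChevalleyDatum) : List (ℕ × ℤ) → List SMat
  | [] => [oneSMat D]
  | p :: w => convL (xListC D p.1 p.2) (wordC D w)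

/-- `x_w(t) P = P x_s(t)`. -/
def chkInterC (D E : ChevalleyDatum) (P : SMat) (w : List (ℕ × ℤ)) (s : ℕ) : Bool :=
  let A := wordC D w
  decide (s < E.nroots) && SMat.bounded (E.rank + E.nroots) P &&
  (w.all fun p => decide (p.1 < D.nroots) &&
    (xListC D p.1 p.2).all fun B => SMat.bounded (D.rank + D.nroots) B) &&
  (A.all fun B => SMat.bounded (D.rank + D.nroots) B) &&
  eqL (A.map fun B => SMat.mul B P) ((xListC E s 1).map (SMat.mul P))

theorem interC_of_chk {D E : ChevalleyDatum} (hD : Good D) (hE : Good E) {P : SMat}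
    {w : List (ℕ × ℤ)} {s : ℕ} (h : chkInterC D E P w s = true) :
    ∃ hs : s < E.nroots, ∀ t : F,
      (((w.map fun p => if h : p.1 < D.nroots then X hD ⟨p.1, h⟩ ((p.2 : F) * t) else 1).prod :
          GL D.Idx F) : Matrix D.Idx D.Idx F) * dMat F D E P =
        dMat F D E P * (X hE (⟨s, hs⟩ : Root E) t : Matrix E.Idx E.Idx F) := by
  simp only [chkInterC, Bool.and_eq_true, decide_eq_true_eq] at h
  obtain ⟨⟨⟨⟨hs, hP⟩, hw⟩, hA⟩, heq⟩ := h
  refine ⟨hs, fun t => ?_⟩
  have hword : ∀ w : List (ℕ × ℤ), (w.all fun p => decide (p.1 < D.nroots) &&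
      (xListC D p.1 p.2).all fun B => SMat.bounded (D.rank + D.nroots) B) = true →
      evalL F D D t (wordC D w) =
        ((w.map fun p => if h : p.1 < D.nroots then X hD ⟨p.1, h⟩ ((p.2 : F) * t) else 1).prod :
          GL D.Idx F) := by
    intro w
    induction w with
    | nil => intro _; simp [wordC, evalL, dMat_one]
    | cons p w ih =>
      intro h
      simp only [List.all_cons, Bool.and_eq_true, decide_eq_true_eq] at h
      obtain ⟨⟨hr, hb⟩, hrest⟩ := h
      rw [wordC, evalL_convL t hb, show p.1 = ((⟨p.1, hr⟩ : Root D) : ℕ) from rfl, evalL_xListC,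
        ih (by simpa [List.all_eq_true] using hrest)]
      simp [hr]
  have he := evalL_eq (F := F) (D := D) (E := E) t heq
  rw [evalL_map_mul_right t hA, evalL_map_mul hP, hword w hw,
    show s = ((⟨s, hs⟩ : Root E) : ℕ) from rfl, evalL_xListC, Int.cast_one, one_mul] at he
  exact he

end CfsgLib.D4Fold
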