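import Cfsg.Agent.D4Fold.Unipotent
import Cfsg.Agent.E6Fold.Fixed

/-!
The elements of the group fixed by a symmetry of order three are generated by the orbit root
elements.
-/

set_option autoImplicit false

namespace CfsgLib.D4Fold

open Cfsg.Lie CfsgLib CfsgLib.Chevalley CfsgLib.E6Fold
open scoped MatrixGroups

variable {D E : ChevalleyDatum} {T : Tables} {F : Type*} [Field F]

theorem goesUp_simple_mul_iff (hW : GoodWeyl D) {C : Weyl.Cert D.rank}
    {M : CoxeterMatrix (Fin D.rank)} {R : Weyl.RootTable} (h : Weyl.RootGood C M R)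
    {a b : Fin D.rank} (hab : wPerm hW a (pRoot hW b) = pRoot hW b) (x : M.Group) :
    GoesUp hW h b (M.simple a * x) ↔ GoesUp hW h b x := by
  simp only [GoesUp, mul_inv_rev, map_mul, map_inv, ← wPerm_eq_rootPerm hW h, Equiv.Perm.mul_apply]
  rw [show (wPerm hW a)⁻¹ (pRoot hW b) = pRoot hW b from
    (wPerm hW a).injective (((wPerm hW a).apply_symm_apply _).trans hab.symm)]

variable (hV : T.Valid D E)
include hV

theorem psi_torC (hW : GoodWeyl D) (c : Fin D.rank → Fˣ) :
    psi hV (torC D c) = torC D fun k => c (nodeP hV (nodeP hV k)) := by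
  rw [torC_eq_prod hW, map_list_prod, List.map_map]
  have : ∀ k, psi hV (hT F (pRoot hW k) (c k) : GL D.Idx F) =
      torHom D F (Pi.mulSingle (nodeP hV k) (c k)) := fun k => by
    rw [psi_hT hV hW, hT_pRoot_eq hW]; rfl
  simp only [Function.comp_def, this]
  show (List.map ((torHom D F) ∘ fun k => Pi.mulSingle (nodeP hV k) (c k)) _).prod = _
  rw [← List.map_map, ← map_list_prod]
  show torC D _ = _
  congr 1
  funext l
  rw [← List.ofFn_eq_map, List.prod_ofFn, Finset.prod_apply,
    Finset.prod_eq_single (nodeP hV (nodeP hV l))]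
  · rw [nodeP3, Pi.mulSingle_eq_same]
  · intro k _ hk
    exact Pi.mulSingle_eq_of_ne (fun e => hk (by rw [e, nodeP3])) _
  · simp

theorem torC_invariant_mem (hW : GoodWeyl D) : ∀ (S : Finset (Fin D.rank)) (c : Fin D.rank → Fˣ),
    (∀ k, c (nodeP hV k) = c k) → (∀ k ∉ S, c k = 1) → (torC D c : GL D.Idx F) ∈ sFix hV hW F := by
  intro S
  induction S using Finset.strongInduction with
  | H S ih =>
    intro c hc hS
    rcases S.eq_empty_or_nonempty with rfl | ⟨k, hk⟩
    · have : c = 1 := funext fun l => hS l (Finset.notMem_empty l)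
      rw [this, show (torC D (1 : Fin D.rank → Fˣ) : GL D.Idx F) = torHom D F 1 from rfl, map_one]
      exact one_mem _
    set o : Fin D.rank → Fˣ := fun l =>
      if l = k ∨ l = nodeP hV k ∨ l = nodeP hV (nodeP hV k) then c k else 1 with ho
    have hrest : (torC D (c * o⁻¹) : GL D.Idx F) ∈ sFix hV hW F := by
      refine ih (S.erase k) (Finset.erase_ssubset hk) _ (fun l => ?_) fun l hl => ?_
      · have hiff : (nodeP hV l = k ∨ nodeP hV l = nodeP hV k ∨
            nodeP hV l = nodeP hV (nodeP hV k)) ↔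
            (l = k ∨ l = nodeP hV k ∨ l = nodeP hV (nodeP hV k)) := by
          constructor
          · rintro (e | e | e)
            · right; right; rw [← e, nodeP3]
            · left; exact (nodeP hV).injective e
            · right; left; exact (nodeP hV).injective e
          · rintro (e | e | e)
            · right; left; rw [e]
            · right; right; rw [e]
            · left; rw [e, nodeP3]
        simp only [Pi.mul_apply, Pi.inv_apply, ho, hc, hiff]
      · simp only [Finset.mem_erase, not_and_or, not_not] at hl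
        simp only [Pi.mul_apply, Pi.inv_apply, ho]
        split_ifs with h
        · rcases h with rfl | rfl | rfl <;> simp [hc]
        · rcases hl with rfl | hl
          · simp at h
          · simp [hS l hl]
    have horb : (torC D o : GL D.Idx F) ∈ sFix hV hW F := by
      by_cases h : nodeP hV k = k
      · have : o = Pi.mulSingle k (c k) := funext fun l => by
          by_cases hl : l = k <;> simp [ho, hl, h, Pi.mulSingle_apply]
        rw [this, ← hT_pRoot_eq hW, ← hElt_pRoot hW]
        exact mul_mem (nElt_single_mem hV hW h _) (nElt_single_mem hV hW h _)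
      · have h2 := node_ne_next hV h
        have h3 : nodeP hV (nodeP hV k) ≠ k := fun e => h (by
          have := congrArg (nodeP hV) e
          rw [nodeP3] at this
          exact this.symm)
        have : o = Pi.mulSingle k (c k) * Pi.mulSingle (nodeP hV k) (c k) *
            Pi.mulSingle (nodeP hV (nodeP hV k)) (c k) := funext fun l => by
          simp only [Pi.mul_apply, ho, Pi.mulSingle_apply]
          by_cases hl : l = k
          · subst hl; simp [Ne.symm h, Ne.symm h3]
          by_cases hl2 : l = nodeP hV k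
          · subst hl2; simp [h, Ne.symm h2]
          by_cases hl3 : l = nodeP hV (nodeP hV k)
          · subst hl3; simp [h3, h2]
          simp [hl, hl2, hl3]
        rw [this, ← torC_mul, ← torC_mul, ← hT_pRoot_eq hW, ← hT_pRoot_eq hW, ← hT_pRoot_eq hW,
          ← hElt_pRoot hW, ← hElt_pRoot hW, ← hElt_pRoot hW]
        have c12 := fun t u => (nElt_nElt_commute hV hW h (F := F) t u).eq
        have c23 := fun t u => (nElt_nElt_commute hV hW h2 (F := F) t u).eq
        have c13 : ∀ t u : Fˣ, nElt hW.good (pRoot hW k) t *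
            nElt hW.good (pRoot hW (nodeP hV (nodeP hV k))) u =
            nElt hW.good (pRoot hW (nodeP hV (nodeP hV k))) u * nElt hW.good (pRoot hW k) t := by
          intro t u
          have := nElt_nElt_commute hV hW (node_ne_next hV h2) (F := F) u t
          rw [nodeP3] at this
          exact this.eq.symm
        rw [show ∀ a a' b b' d d' : GL D.Idx F, a * a' * (b * b') * (d * d') =
            a * (a' * b) * (b' * d) * d' from fun a a' b b' d d' => by group, c12, c23,
          show ∀ a a' b b' d d' : GL D.Idx F, a * (b * a') * (d * b') * d' =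
            a * b * (a' * d) * b' * d' from fun a a' b b' d d' => by group, c13,
          show ∀ a a' b b' d d' : GL D.Idx F, a * b * (d * a') * b' * d' =
            (a * b * d) * (a' * b' * d') from fun a a' b b' d d' => by group]
        exact mul_mem (nElt_triple_mem hV hW h _) (nElt_triple_mem hV hW h _)
    have := mul_mem hrest horb
    rwa [torC_mul, inv_mul_cancel_right] at this

theorem diag_fixed (hW : GoodWeyl D) {g : GL D.Idx F} (hg : g ∈ D.diagonalSubgroup F)
    (hf : psi hV g = g) : g ∈ sFix hV hW F := by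
  rw [diagonalSubgroup_eq_range hW] at hg
  obtain ⟨c, rfl⟩ := hg
  change psi hV (torC D c) = torC D c at hf
  rw [psi_torC hV hW] at hf
  set e : Fin D.rank → Fˣ := fun k => c (nodeP hV (nodeP hV k)) * (c k)⁻¹ with he
  have he1 : torC D e = (1 : GL D.Idx F) := by
    have : e = (fun k => c (nodeP hV (nodeP hV k))) * c⁻¹ := rfl
    rw [this, ← torC_mul, hf, torC_mul, mul_inv_cancel]
    exact map_one (torHom D F)
  have hd : ∀ s : Root D, ∏ k : Fin D.rank, e k ^ D.cartan k s = 1 := fun s => by
    have := congrFun (tor_injective (he1.trans tor_one.symm)) s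
    exact this
  have he2 : ∀ l : Fin D.rank, e l ^ (2 : ℤ) = 1 := by
    intro l
    have hQ := hV.cart
    simp only [Tables.chkCart, List.all_eq_true, List.mem_range, beq_iff_eq] at hQ
    have h2 : ∏ j : Fin D.rank, (∏ k : Fin D.rank, e k ^ D.cartan k (pRoot hW j)) ^
        ((T.cartInv.getD j []).getD l 0) = 1 := by simp [hd]
    simp only [← Finset.prod_zpow, ← zpow_mul] at h2
    rw [Finset.prod_comm] at h2
    have hz : ∀ (k : Fin D.rank) (S : Finset (Fin D.rank)) (f : Fin D.rank → ℤ),
        ∏ j ∈ S, e k ^ f j = e k ^ ∑ j ∈ S, f j := by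
      intro k S f
      induction S using Finset.induction_on with
      | empty => simp
      | insert j S hj ih => rw [Finset.prod_insert hj, Finset.sum_insert hj, zpow_add, ih]
    rw [Finset.prod_eq_single l] at h2
    · have h3 := hQ l l.isLt l l.isLt
      rw [← List.ofFn_eq_map, List.sum_ofFn, beq_self_eq_true, cond_true] at h3
      rw [hz] at h2
      rwa [← h3]
    · intro k _ hk
      have h3 := hQ k k.isLt l l.isLt
      rw [← List.ofFn_eq_map, List.sum_ofFn, beq_false_of_ne (fun e => hk (Fin.ext e)),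
        cond_false] at h3
      rw [hz]
      show e k ^ (∑ j : Fin D.rank, D.cartan k (D.simple j) * _) = 1
      rw [h3, zpow_zero]
    · simp
  set c' : Fin D.rank → Fˣ := c * fun k => e (nodeP hV (nodeP hV k)) with hc'
  have hc : torC D c' = torC D c := by
    rw [hc', ← torC_mul, ← psi_torC hV hW e, he1, map_one, mul_one]
  have hsym : ∀ k, c' (nodeP hV (nodeP hV k)) = c' k := by
    intro k
    have h2 := he2 (nodeP hV (nodeP hV k))
    simp only [he, zpow_ofNat, nodeP3] at h2
    simp only [hc', he, Pi.mul_apply, nodeP3]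
    apply Units.ext
    have h4 := congrArg Units.val h2
    simp only [Units.val_pow_eq_pow_val, Units.val_mul, Units.val_inv_eq_inv_val,
      Units.val_one] at h4 ⊢
    have hx := (c k).ne_zero
    have hy := (c (nodeP hV k)).ne_zero
    have hz := (c (nodeP hV (nodeP hV k))).ne_zero
    field_simp at h4 ⊢
    first
      | linear_combination ((c k : F)) * h4
      | linear_combination -((c k : F)) * h4
      | linear_combination h4
      | linear_combination -h4
  show torC D c ∈ sFix hV hW F
  rw [← hc]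
  refine torC_invariant_mem hV hW Finset.univ c' (fun k => ?_) (by simp)
  have := hsym (nodeP hV (nodeP hV k))
  rw [nodeP3] at this
  rw [this, hsym]

theorem psi_pos (hW : GoodWeyl D) {u : GL D.Idx F} (hu : u ∈ D.posUnipotent F) :
    psi hV u ∈ D.posUnipotent F := by
  rw [posUnipotent_eq_closure hW.good] at hu
  induction hu using Subgroup.closure_induction with
  | mem x hx =>
    obtain ⟨r, hr, t, rfl⟩ := hx
    rw [psi_X hV hW]
    exact X_mem_pos hW.good ((rootP_pos hV r).2 hr) _
  | one => simp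
  | mul x y _ _ hx hy => rw [map_mul]; exact mul_mem hx hy
  | inv x _ hx => rw [map_inv]; exact inv_mem hx

theorem psi_diag (hW : GoodWeyl D) {g : GL D.Idx F} (hg : g ∈ D.diagonalSubgroup F) :
    psi hV g ∈ D.diagonalSubgroup F := by
  rw [diagonalSubgroup_eq_range hW] at hg ⊢
  obtain ⟨c, rfl⟩ := hg
  exact ⟨_, (psi_torC hV hW c).symm⟩

theorem psi_borel (hW : GoodWeyl D) {g : GL D.Idx F} (hg : g ∈ D.borelSubgroup F) :
    psi hV g ∈ D.borelSubgroup F := by
  obtain ⟨u, hu, k, hk, rfl⟩ := (mem_borel_iff hW).1 hg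
  rw [map_mul]
  exact mul_mem (pos_le_borel D (psi_pos hV hW hu)) (diag_le_borel D (psi_diag hV hW hk))

theorem borel_parts (hW : GoodWeyl D) {u k : GL D.Idx F} (hu : u ∈ D.posUnipotent F)
    (hk : k ∈ D.diagonalSubgroup F) (hf : psi hV (u * k) = u * k) :
    psi hV u = u ∧ psi hV k = k := by
  rw [map_mul] at hf
  have h1 : u⁻¹ * psi hV u ∈ D.posUnipotent F ⊓ D.diagonalSubgroup F := by
    refine Subgroup.mem_inf.2 ⟨mul_mem (inv_mem hu) (psi_pos hV hW hu), ?_⟩
    rw [show u⁻¹ * psi hV u = k * (psi hV k)⁻¹ by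
      rw [eq_mul_inv_of_mul_eq hf]; group]
    exact mul_mem hk (inv_mem (psi_diag hV hW hk))
  rw [pos_inf_diag hW, Subgroup.mem_bot, inv_mul_eq_one] at h1
  rw [← h1, mul_right_inj] at hf
  exact ⟨h1.symm, hf⟩

theorem borel_fixed (hW : GoodWeyl D) {g : GL D.Idx F} (hg : g ∈ D.borelSubgroup F)
    (hf : psi hV g = g) : g ∈ sFix hV hW F := by
  obtain ⟨u, hu, k, hk, rfl⟩ := (mem_borel_iff hW).1 hg
  obtain ⟨h1, h2⟩ := borel_parts hV hW hu hk hf
  exact mul_mem ((chain_top hV hW).1 u hu h1) (diag_fixed hV hW hk h2)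

theorem monomial_psi (hW : GoodWeyl D) {g : GL D.Idx F}
    (hg : g ∈ D.monomialSubgroup F) : psi hV g ∈ D.monomialSubgroup F := by
  refine monomial_induction hW (P := fun g => psi hV g ∈ D.monomialSubgroup F) hg
    (fun a ha => diag_le_monomial D (psi_diag hV hW ha))
    (fun i => by rw [psi_nR hV hW]; exact nR_mem_monomial hW _) ?_ ?_
  · intro a b ha hb; rw [map_mul]; exact mul_mem ha hb
  · intro a ha; rw [map_inv]; exact inv_mem ha

theorem monBy_psi (hW : GoodWeyl D) {g : GL D.Idx F} {π : Equiv.Perm (Root D)}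
    (hg : MonBy hW g π) : MonBy hW (psi hV g) (rootP hV * π * (rootP hV)⁻¹) := by
  intro r
  set r0 := (rootP hV)⁻¹ r with hr0
  have hr : rootP hV r0 = r := (rootP hV).apply_symm_apply r
  obtain ⟨c, hc, hc'⟩ := hg r0
  set a : Fˣ := ⟨sgnR T F r0, sgnR T F r0, sgnR_sq hV r0, sgnR_sq hV r0⟩ with ha
  set b : Fˣ := ⟨sgnR T F (π r0), sgnR T F (π r0), sgnR_sq hV _, sgnR_sq hV _⟩ with hb
  refine ⟨b * c * a, fun t => ?_, fun t => ?_⟩
  · have := congrArg (psi hV) (hc ((a : F) * t))
    rw [map_mul, map_mul, map_inv, psi_X hV hW, psi_X hV hW, hr] at this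
    rw [show sgnR T F r0 * ((a : F) * t) = t by
      rw [← mul_assoc]; simp [ha, sgnR_sq hV r0]] at this
    rw [this]
    simp only [Equiv.Perm.mul_apply, ← hr0, ha, hb, Units.val_mul]
    congr 1
    ring
  · have := congrArg (psi hV) (hc' ((a : F) * t))
    rw [map_mul, map_mul, map_inv, psi_X hV hW, psi_X hV hW, rootP_rev, hr, rootP_rev] at this
    rw [show sgnR T F r0.rev * ((a : F) * t) = t by
      rw [sgnR_rev hV, ← mul_assoc]; simp [ha, sgnR_sq hV r0]] at this
    rw [this]
    simp only [Equiv.Perm.mul_apply, ← hr0, sgnR_rev hV]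
    congr 1
    rw [mul_inv_rev, mul_inv_rev, Units.val_mul, Units.val_mul]
    show _ = sgnR T F r0 * (((c⁻¹ : Fˣ) : F) * sgnR T F (π r0)) * t
    show sgnR T F (π r0) * (((c⁻¹ : Fˣ) : F) * (sgnR T F r0 * t)) = _
    ring

variable {C : Weyl.Cert D.rank} {M : CoxeterMatrix (Fin D.rank)} {R : Weyl.RootTable}

theorem psi_cell (hW : GoodWeyl D) (h : Weyl.RootGood C M R) {w : M.Group} {g : GL D.Idx F}
    (hg : g ∈ cell hW h F w) : ∃ w', psi hV g ∈ cell hW h F w' ∧
      h.rootPerm w' = rootP hV * h.rootPerm w * (rootP hV)⁻¹ := by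
  obtain ⟨b, hb, b', hb', rfl⟩ := hg
  set n : ↥(D.monomialSubgroup F) := ⟨psi hV (nW hW h F w), monomial_psi hV hW (nW_mem hW h w)⟩
  refine ⟨weylHom hW h n, ?_, (monBy_weylHom hW h n).unique (monBy_psi hV hW (monBy_nW hW h w))⟩
  rw [map_mul, map_mul]
  exact mul_mem_cell hW h (psi_borel hV hW hb) (mem_cell_self hW h n) (psi_borel hV hW hb')

theorem cell_comm (hW : GoodWeyl D) (h : Weyl.RootGood C M R) {w : M.Group} {g : GL D.Idx F}
    (hg : g ∈ cell hW h F w) (hf : psi hV g = g) :
    ∀ r, rootP hV (h.rootPerm w r) = h.rootPerm w (rootP hV r) := by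
  obtain ⟨w', hw', e⟩ := psi_cell hV hW h hg
  rw [hf] at hw'
  rw [cell_eq_of_mem hW h hw' hg] at e
  intro r
  have := congrArg (fun p : Equiv.Perm (Root D) => p (rootP hV r)) e
  simp only [Equiv.Perm.mul_apply, Equiv.Perm.coe_inv, Equiv.symm_apply_apply] at this
  exact this.symm

theorem rootPerm_injective (h : Weyl.RootGood C M R) {v w : M.Group}
    (e : h.rootPerm v = h.rootPerm w) : v = w := by
  rw [← inv_mul_eq_one]
  refine h.eq_one_of_invSet_empty (Finset.eq_empty_of_forall_notMem fun r hr => ?_)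
  rw [Weyl.RootGood.mem_invSet, map_mul, map_inv, e, inv_mul_cancel, Equiv.Perm.one_apply] at hr
  exact hr.2 hr.1

theorem psi_cell_of_comm (hW : GoodWeyl D) (h : Weyl.RootGood C M R) {w : M.Group}
    (hw : ∀ r, rootP hV (h.rootPerm w r) = h.rootPerm w (rootP hV r)) {g : GL D.Idx F}
    (hg : g ∈ cell hW h F w) : psi hV g ∈ cell hW h F w := by
  obtain ⟨w', hw', e⟩ := psi_cell hV hW h hg
  have : h.rootPerm w' = h.rootPerm w := by
    rw [e]
    ext1 r
    rw [Equiv.Perm.mul_apply, Equiv.Perm.mul_apply, hw, Equiv.Perm.coe_inv, Equiv.apply_symm_apply]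
  rwa [rootPerm_injective hV h this] at hw'

/-- The fixed elements are products of orbit root elements. -/
theorem fixed_mem (hW : GoodWeyl D) (h : Weyl.RootGood C M R) {g : GL D.Idx F}
    (hg : g ∈ D.group F) (hf : psi hV g = g) : g ∈ sFix hV hW F := by
  obtain ⟨w, hw⟩ := exists_mem_cell hW h hg
  clear hg
  induction hn : M.toCoxeterSystem.length w using Nat.strong_induction_on generalizing w g with
  | _ n ih =>
  by_cases hw1 : w = 1
  · subst hw1
    rw [cell_one hW h] at hw
    exact borel_fixed hV hW hw hf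
  have hcomm := cell_comm hV hW h hw hf
  obtain ⟨i, v, rfl, hv, hlen⟩ := ChevSubfield.exists_goesUp_of_ne_one hW h hw1
  have hsimple : ∀ k, h.rootPerm (M.simple k) = wPerm hW k := fun k => (wPerm_eq_rootPerm hW h k).symm
  obtain ⟨t, c, hc, rfl⟩ := ChevSubfield.exists_coord hW h hw
  by_cases hi : nodeP hV i = i
  · have hcv : ∀ r, rootP hV (h.rootPerm v r) = h.rootPerm v (rootP hV r) := by
      intro r
      have := hcomm r
      rw [map_mul, hsimple, Equiv.Perm.mul_apply, Equiv.Perm.mul_apply, rootP_wPerm hV hW, hi] at this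
      exact (wPerm hW i).injective this
    have hψc := psi_cell_of_comm hV hW h hcv hc
    have e0 := hf
    rw [map_mul, map_mul, psi_X_pRoot hV hW, psi_nR hV hW, hi, mul_right_inj] at e0
    rw [show X hW.good (pRoot hW i) t = orbEl hV hW (pRoot hW i) t by
        rw [orbEl, if_pos (by rw [rootP_pRoot hV hW, hi])],
      show (nR hW i : GL D.Idx F) = orbN hV hW i by rw [orbN, if_pos hi]]
    exact mul_mem (mul_mem (orbEl_mem hV hW _ _) (orbN_mem hV hW i))
      (ih _ (hn ▸ hlen) e0 v hc rfl)
  have hjn := node_ne_next hV hi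
  set j := nodeP hV i with hjdef
  set k := nodeP hV j with hkdef
  have hki : nodeP hV k = i := nodeP3 hV i
  have hkn : nodeP hV k ≠ k := node_ne_next hV hjn
  obtain ⟨fij, fji⟩ := wPerm_node_fix hV hW hi
  obtain ⟨fjk, fkj⟩ := wPerm_node_fix hV hW hjn
  obtain ⟨fki, fik⟩ := wPerm_node_fix hV hW hkn
  rw [hki] at fki fik
  rw [← hjdef] at fij fji
  rw [← hkdef] at fjk fkj
  have hdown : ∀ a, ¬ GoesUp hW h a (M.simple i * v) →
      ¬ GoesUp hW h (nodeP hV a) (M.simple i * v) := by
    intro a ha hup
    apply ha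
    simp only [GoesUp, map_inv] at hup ⊢
    rw [← rootP_pos hV]
    convert hup using 2
    apply (h.rootPerm (M.simple i * v)).injective
    rw [← hcomm, Equiv.Perm.coe_inv, Equiv.apply_symm_apply, Equiv.apply_symm_apply,
      rootP_pRoot hV hW]
  have hwi : ¬ GoesUp hW h i (M.simple i * v) := by
    rw [goesUp_iff, ChevSubfield.simple_mul_cancel_left]
    omega
  have hwj := hdown i hwi
  have hwk := hdown _ hwj
  rw [← hjdef] at hwj hwk
  rw [← hkdef] at hwk
  rw [goesUp_simple_mul_iff hW h fij] at hwj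
  rw [goesUp_simple_mul_iff hW h fik] at hwk
  have hv1 := not_goesUp_simple_mul hW h j v hwj
  set v1 := M.simple j * v with hv1def
  have hvv1 : M.simple j * v1 = v := ChevSubfield.simple_mul_cancel_left j v
  have hwk1 : ¬ GoesUp hW h k v1 := by rw [hv1def, goesUp_simple_mul_iff hW h fjk]; exact hwk
  have hv2 := not_goesUp_simple_mul hW h k v1 hwk1
  set v2 := M.simple k * v1 with hv2def
  have hvv2 : M.simple k * v2 = v1 := ChevSubfield.simple_mul_cancel_left k v1
  have hlen2 : M.toCoxeterSystem.length v2 < M.toCoxeterSystem.length v := by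
    have h1 := (goesUp_iff hW h j v1).1 hv1
    have h2 := (goesUp_iff hW h k v2).1 hv2
    rw [hvv1] at h1
    rw [hvv2] at h2
    omega
  have wc : ∀ a, nodeP hV a ≠ a → ∀ r, wPerm hW a (wPerm hW (nodeP hV a) r) =
      wPerm hW (nodeP hV a) (wPerm hW a r) := by
    intro a ha r
    obtain ⟨-, -, -, -, -, -, -, hs⟩ := (node_facts hV a.isLt).2.2.2.2 fun e => ha (Fin.ext e)
    exact Fin.ext (hs r r.isLt)
  have hcv2 : ∀ r, rootP hV (h.rootPerm v2 r) = h.rootPerm v2 (rootP hV r) := by
    intro r
    have := hcomm r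
    simp only [hv2def, hv1def, map_mul, hsimple, Equiv.Perm.mul_apply] at this ⊢
    rw [rootP_wPerm hV hW, ← hjdef] at this
    rw [rootP_wPerm hV hW, rootP_wPerm hV hW, hki, ← hkdef,
      show rootP hV (h.rootPerm v r) = wPerm hW j (wPerm hW i (h.rootPerm v (rootP hV r))) by
        rw [← this, hW.wPerm_wPerm]]
    have hij := wc i hi
    have hjk := wc j hjn
    have hki' := wc k hkn
    rw [← hjdef] at hij
    rw [← hkdef] at hjk
    rw [hki] at hki'
    rw [← hij, ← hki', hW.wPerm_wPerm]
  obtain ⟨t2, c1, hc1, rfl⟩ := ChevSubfield.exists_coord hW h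
    (show c ∈ cell hW h F (M.simple j * v1) by rwa [hvv1])
  obtain ⟨t3, c2, hc2, rfl⟩ := ChevSubfield.exists_coord hW h
    (show c1 ∈ cell hW h F (M.simple k * v2) by rwa [hvv2])
  have hψc := psi_cell_of_comm hV hW h hcv2 hc2
  have hA : ∀ a, nodeP hV a ≠ a → ∀ x y : F,
      Commute (X hW.good (pRoot hW a) x * nR hW a)
        (X hW.good (pRoot hW (nodeP hV a)) y * nR hW (nodeP hV a)) := by
    intro a ha x y
    have c1 := fun b c u u' => node_commute hV hW ha (F := F) b c u u'
    have c2 := fun b u => nElt_commute hV hW ha (1 : Fˣ) (F := F) b u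
    simp only [Bool.forall_bool, Bool.false_eq_true, if_false, if_true, nElt_one] at c1 c2
    have c3 := nElt_nElt_commute hV hW ha (1 : Fˣ) (1 : Fˣ)
    rw [nElt_one, nElt_one] at c3
    have c4 : Commute (X hW.good (pRoot hW a) x) (nR hW (nodeP hV a) : GL D.Idx F) := by
      rw [nR]
      exact ((c1.1.1 _ _).mul_right (c1.1.2 _ _)).mul_right (c1.1.1 _ _)
    exact ((c1.1.1 _ _).mul_right c4).mul_left ((c2.1 _).mul_right c3)
  have cij : ∀ x y : F, Commute (X hW.good (pRoot hW i) x * nR hW i)
      (X hW.good (pRoot hW j) y * nR hW j) := hA i hi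
  have cjk : ∀ x y : F, Commute (X hW.good (pRoot hW j) x * nR hW j)
      (X hW.good (pRoot hW k) y * nR hW k) := hA j hjn
  have cki : ∀ x y : F, Commute (X hW.good (pRoot hW k) x * nR hW k)
      (X hW.good (pRoot hW i) y * nR hW i) := by
    have := hA k hkn
    rwa [hki] at this
  have e0 := hf
  rw [map_mul, map_mul, map_mul, map_mul, map_mul, map_mul, psi_X_pRoot hV hW,
    psi_X_pRoot hV hW, psi_X_pRoot hV hW, psi_nR hV hW, psi_nR hV hW, psi_nR hV hW, ← hjdef,
    ← hkdef, hki] at e0
  have e1 : X hW.good (pRoot hW i) t3 * nR hW i * (X hW.good (pRoot hW j) t * nR hW j *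
      (X hW.good (pRoot hW k) t2 * nR hW k * psi hV c2)) =
      X hW.good (pRoot hW i) t * nR hW i * (X hW.good (pRoot hW j) t2 * nR hW j *
        (X hW.good (pRoot hW k) t3 * nR hW k * c2)) := by
    conv_rhs => rw [← e0]
    calc _ = (X hW.good (pRoot hW i) t3 * nR hW i) * ((X hW.good (pRoot hW j) t * nR hW j) *
          (X hW.good (pRoot hW k) t2 * nR hW k)) * psi hV c2 := by group
      _ = _ := by rw [((cij t3 t).mul_right (cki t2 t3).symm).eq]; group
  have m1 : ∀ (x : F) (z : GL D.Idx F), z ∈ cell hW h F v2 →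
      X hW.good (pRoot hW k) x * nR hW k * z ∈ cell hW h F v1 := fun x z hz =>
    hvv2 ▸ upper_mem hW h hv2 x hz
  have m2 : ∀ (x : F) (z : GL D.Idx F), z ∈ cell hW h F v1 →
      X hW.good (pRoot hW j) x * nR hW j * z ∈ cell hW h F v := fun x z hz =>
    hvv1 ▸ upper_mem hW h hv1 x hz
  have h31 : t3 = t := ChevSubfield.coord_unique hW h hv (m2 _ _ (m1 _ _ hψc))
    (m2 _ _ (m1 _ _ hc2)) e1
  subst h31
  rw [mul_right_inj] at e1
  have h12 : t3 = t2 := ChevSubfield.coord_unique hW h hv1 (m1 _ _ hψc) (m1 _ _ hc2) e1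
  subst h12
  rw [mul_right_inj, mul_right_inj] at e1
  have hX : orbEl hV hW (pRoot hW i) t3 * orbN hV hW i =
      X hW.good (pRoot hW i) t3 * nR hW i * (X hW.good (pRoot hW j) t3 * nR hW j *
        (X hW.good (pRoot hW k) t3 * nR hW k)) := by
    rw [orbEl_pRoot hV hW hi, orbN, if_neg hi, ← hjdef, ← hkdef]
    have c1 := fun b u => nElt_commute hV hW hi (1 : Fˣ) (F := F) b u
    have c2 := fun b u => nElt_commute hV hW hjn (1 : Fˣ) (F := F) b u
    have c3 : Commute (nR hW i : GL D.Idx F) (X hW.good (pRoot hW k) t3) := by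
      have h1 := fun b u u' => node_commute3 hV hW hi (F := F) b false u u'
      simp only [Bool.forall_bool, Bool.false_eq_true, if_false, if_true] at h1
      rw [nR]
      exact ((h1.1 _ _).mul_left (h1.2 _ _)).mul_left (h1.1 _ _)
    simp only [Bool.forall_bool, Bool.false_eq_true, if_false, if_true, nElt_one] at c1 c2
    rw [← hjdef] at c1
    rw [← hkdef] at c2
    calc _ = X hW.good (pRoot hW i) t3 * (X hW.good (pRoot hW j) t3 *
          X hW.good (pRoot hW k) t3 * nR hW i) * nR hW j * nR hW k := by group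
      _ = X hW.good (pRoot hW i) t3 * nR hW i * X hW.good (pRoot hW j) t3 *
          (X hW.good (pRoot hW k) t3 * nR hW j) * nR hW k := by
            rw [← ((c1.1 t3).mul_right c3).eq]; group
      _ = _ := by rw [← (c2.1 t3).eq]; group
  rw [show X hW.good (pRoot hW i) t3 * nR hW i * (X hW.good (pRoot hW j) t3 * nR hW j *
      (X hW.good (pRoot hW k) t3 * nR hW k * c2)) =
      orbEl hV hW (pRoot hW i) t3 * orbN hV hW i * c2 by rw [hX]; group]
  exact mul_mem (mul_mem (orbEl_mem hV hW _ _) (orbN_mem hV hW i))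
    (ih _ (hn ▸ (hlen2.trans hlen)) e1 v2 hc2 rfl)

end CfsgLib.D4Fold
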