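import Cfsg.Agent.D4Fold.Fixed
import Cfsg.Agent.E6Fold.Fold

/-!
The subgroup generated by the orbit root elements is isomorphic to the group of the folded datum, by
restriction to the folded subspace.
-/

set_option autoImplicit false

namespace CfsgLib.D4Fold

open Cfsg.Lie CfsgLib CfsgLib.Chevalley CfsgLib.E6Fold
open scoped MatrixGroups

variable {D E : ChevalleyDatum} {T : Tables} {F : Type*} [Field F]

/-- The folding matrix over `F`. -/
abbrev foldM (T : Tables) (D E : ChevalleyDatum) (F : Type*) [Field F] : Matrix D.Idx E.Idx F :=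
  dMat F D E (T.foldMat D E)

variable (hV : T.Valid D E)
include hV

theorem exists_fold (r : Root D) : ∃ s : Root E, (s : ℕ) = T.fold r := by
  have h := hV.folded
  simp only [Tables.chkFold, Bool.and_eq_true, List.all_eq_true, List.mem_range] at h
  have h1 := (h.1.1.1.1 r r.isLt).1
  simp only [chkInterC, Bool.and_eq_true, decide_eq_true_eq] at h1
  exact ⟨⟨_, h1.1.1.1.1⟩, rfl⟩

theorem exists_root (s : Root E) : ∃ r : Root D, (s : ℕ) = T.fold r := by
  have h := hV.folded
  simp only [Tables.chkFold, Bool.and_eq_true, List.all_eq_true, List.mem_range,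
    decide_eq_true_eq, beq_iff_eq] at h
  obtain ⟨hr, e⟩ := h.1.1.1.2 s s.isLt
  exact ⟨⟨_, hr⟩, e.symm⟩

theorem coef_sq (r : Root D) : (T.coef r : F) * T.coef r = 1 := by
  have h := hV.folded
  simp only [Tables.chkFold, Bool.and_eq_true, List.all_eq_true, List.mem_range, beq_iff_eq] at h
  rcases Int.natAbs_eq_iff.1 (h.1.1.1.1 r r.isLt).2 with e | e <;> simp [e]

theorem orbEl_foldM (hW : GoodWeyl D) (hWE : GoodWeyl E) (r : Root D) (s : Root E)
    (hs : (s : ℕ) = T.fold r) (t : F) :
    (orbEl hV hW r t : Matrix D.Idx D.Idx F) * foldM T D E F =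
      foldM T D E F * (X hWE.good s ((T.coef r : F) * t) : Matrix E.Idx E.Idx F) := by
  have h := hV.folded
  simp only [Tables.chkFold, Bool.and_eq_true, List.all_eq_true, List.mem_range] at h
  obtain ⟨hs', e⟩ := interC_of_chk (F := F) hW.good hWE.good (h.1.1.1.1 r r.isLt).1
  have hw : ((T.orbW r).map fun p => if h : p.1 < D.nroots then
      X hW.good ⟨p.1, h⟩ ((p.2 : F) * ((T.coef r : F) * t)) else 1).prod = orbEl hV hW r t := by
    have h1 := (root_facts hV r.isLt).1
    have h2 := (root_facts hV h1).1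
    have hc : (T.coef r : F) * ((T.coef r : F) * t) = t := by
      rw [← mul_assoc, coef_sq hV, one_mul]
    by_cases hr : rootP hV r = r
    · have : T.root r = r := congrArg Fin.val hr
      rw [orbEl, if_pos hr, Tables.orbW, beq_iff_eq.2 this, cond_true]
      simp only [List.map_cons, List.map_nil, List.prod_cons, List.prod_nil, mul_one,
        dif_pos r.isLt, Fin.eta, hc]
    · have : T.root r ≠ r := fun e => hr (Fin.ext e)
      rw [orbEl, if_neg hr, Tables.orbW, beq_false_of_ne this, cond_false]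
      simp only [List.map_cons, List.map_nil, List.prod_cons, List.prod_nil, mul_one,
        dif_pos r.isLt, dif_pos h1, dif_pos h2, Fin.eta, hc, Int.cast_mul]
      rw [show (T.coef r : F) * (T.sgn3 r : F) * ((T.coef r : F) * t) = (T.sgn3 r : F) * t by
          rw [mul_comm (T.coef r : F) (T.sgn3 r : F), mul_assoc, hc],
        show (T.coef r : F) * ((T.sgn3 r : F) * (T.sgn3 (T.root r) : F)) * ((T.coef r : F) * t) =
          (T.sgn3 r : F) * (T.sgn3 (T.root r) : F) * t by
          rw [mul_comm (T.coef r : F) ((T.sgn3 r : F) * _), mul_assoc, hc]]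
      rfl
  rw [← hw, show s = ⟨T.fold r, hs'⟩ from Fin.ext hs]
  exact e _

theorem foldM_col {r : Root D} (hr : T.isMin r = true) (s : Root E) (hs : (s : ℕ) = T.fold r) :
    foldM T D E F (Sum.inr r) (Sum.inr s) = (T.coef r : F) ∧
      ∀ a : D.Idx, foldM T D E F a (Sum.inr s) ≠ 0 →
        a = Sum.inr r ∨ ∃ q : Root D, (r : ℕ) < q ∧ a = Sum.inr q := by
  have h := hV.folded
  simp only [Tables.chkFold, Bool.and_eq_true, List.all_eq_true, List.mem_range, Bool.or_eq_true,
    Bool.not_eq_true', beq_iff_eq, decide_eq_true_eq] at h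
  obtain ⟨h1, h2⟩ := (h.2 r r.isLt).resolve_left (by rw [hr]; simp)
  have hp : pos (Sum.inr s : E.Idx) = E.rank + T.fold r := by
    simp [pos, hs]
  have hq : ∀ q : Root D, pos (Sum.inr q : D.Idx) = D.rank + q := fun q => by simp [pos]
  constructor
  · show ((SMat.den (T.foldMat D E) (pos (Sum.inr r : D.Idx)) (pos (Sum.inr s : E.Idx)) : ℤ) : F) = _
    rw [hp, hq, h1]
  · intro a ha
    have hne : SMat.den (T.foldMat D E) (pos a) (E.rank + T.fold r) ≠ 0 := fun e => ha (by
      show ((SMat.den (T.foldMat D E) (pos a) (pos (Sum.inr s : E.Idx)) : ℤ) : F) = _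
      rw [hp, e, Int.cast_zero])
    have h3 := (h2 (pos a) (finSumFinEquiv a).isLt).resolve_right hne
    rcases a with j | q
    · have : pos (Sum.inl j : D.Idx) = j := by simp [pos]
      have := j.isLt
      omega
    · rw [hq] at h3
      rcases h3 with h3 | h3
      · exact Or.inl (congrArg Sum.inr (Fin.ext (by omega)))
      · exact Or.inr ⟨q, by omega, rfl⟩

omit hV in
/-- A later root has a larger position. -/
theorem ord_le {r q : Root D} (h : (r : ℕ) ≤ q) :
    ord false (Sum.inr r : D.Idx) ≤ ord false (Sum.inr q : D.Idx) := by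
  simp only [ord, Sum.elim_inr, key, Bool.false_eq_true, if_false]
  split_ifs <;> omega

theorem exists_min (r : Root D) : ∃ m : Root D,
    (m = r ∨ m = rootP hV r ∨ m = rootP hV (rootP hV r)) ∧ T.isMin m = true := by
  have key : ∀ m : Root D, (m : ℕ) ≤ rootP hV m → (m : ℕ) ≤ rootP hV (rootP hV m) →
      T.isMin m = true := fun m h1 h2 => by
    simp only [Tables.isMin, Bool.and_eq_true, decide_eq_true_eq]
    exact ⟨h1, h2⟩
  have h3 := rootP3 hV r
  have h4 := rootP3 hV (rootP hV r)
  rcases le_total (r : ℕ) (rootP hV r) with a | a <;>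
    rcases le_total (r : ℕ) (rootP hV (rootP hV r)) with b | b <;>
    rcases le_total (rootP hV r : ℕ) (rootP hV (rootP hV r)) with c | c
  all_goals first
    | exact ⟨r, Or.inl rfl, key r (by omega) (by omega)⟩
    | exact ⟨rootP hV r, Or.inr (Or.inl rfl), key _ (by omega) (by rw [h3]; omega)⟩
    | exact ⟨rootP hV (rootP hV r), Or.inr (Or.inr rfl), key _ (by rw [h3]; omega)
        (by rw [h4]; omega)⟩

theorem selM_mul :
    dMat F E D (T.selMat D E) * foldM T D E F = (1 : Matrix E.Idx E.Idx F) := by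
  have h := hV.folded
  simp only [Tables.chkFold, Bool.and_eq_true] at h
  have hb := h.1.1.2
  have := dMat_eq (F := F) (D := E) (E := E) h.1.2
  rwa [dMat_mul hb, dMat_one] at this

theorem foldM_cancel {A B : Matrix E.Idx E.Idx F}
    (e : foldM T D E F * A = foldM T D E F * B) : A = B := by
  have := congrArg (fun M => dMat F E D (T.selMat D E) * M) e
  simpa only [← Matrix.mul_assoc, selM_mul hV, Matrix.one_mul] using this

theorem exists_image (hW : GoodWeyl D) (hWE : GoodWeyl E) {g : GL D.Idx F}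
    (hg : g ∈ sFix hV hW F) : ∃ m ∈ E.group F,
      (g : Matrix D.Idx D.Idx F) * foldM T D E F =
        foldM T D E F * (m : Matrix E.Idx E.Idx F) := by
  induction hg using Subgroup.closure_induction with
  | mem x hx =>
    obtain ⟨r, t, rfl⟩ := hx
    obtain ⟨s, hs⟩ := exists_fold hV r
    exact ⟨_, X_mem_group hWE.good s _, orbEl_foldM hV hW hWE r s hs t⟩
  | one => exact ⟨1, one_mem _, by simp⟩
  | mul x y _ _ hx hy =>
    obtain ⟨a, ha, ea⟩ := hx
    obtain ⟨b, hb, eb⟩ := hy
    exact ⟨a * b, mul_mem ha hb, by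
      rw [Units.val_mul, Units.val_mul, Matrix.mul_assoc, eb, ← Matrix.mul_assoc, ea,
        Matrix.mul_assoc]⟩
  | inv x _ hx =>
    obtain ⟨a, ha, ea⟩ := hx
    refine ⟨a⁻¹, inv_mem ha, ?_⟩
    have := congrArg (fun M => ((x⁻¹ : GL D.Idx F) : Matrix D.Idx D.Idx F) * M *
      ((a⁻¹ : GL E.Idx F) : Matrix E.Idx E.Idx F)) ea
    simp only [← Matrix.mul_assoc, ← Units.val_mul, inv_mul_cancel, Units.val_one,
      Matrix.one_mul] at this
    rw [Matrix.mul_assoc (((x⁻¹ : GL D.Idx F) : Matrix D.Idx D.Idx F) * _), ← Units.val_mul,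
      mul_inv_cancel, Units.val_one, Matrix.mul_one] at this
    exact this.symm

variable {C : Weyl.Cert D.rank} {M : CoxeterMatrix (Fin D.rank)} {R : Weyl.RootTable}

theorem kernel_mem_borel (hW : GoodWeyl D) (h : Weyl.RootGood C M R) {g : GL D.Idx F}
    (hg : g ∈ D.group F) (hf : psi hV g = g)
    (hk : (g : Matrix D.Idx D.Idx F) * foldM T D E F = foldM T D E F) :
    g ∈ D.borelSubgroup F := by
  obtain ⟨w, hw⟩ := exists_mem_cell hW h hg
  by_cases hw1 : w = 1
  · subst hw1
    rwa [cell_one hW h] at hw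
  exfalso
  have hcomm := cell_comm hV hW h hw hf
  obtain ⟨r, hr, hwr, hmin⟩ : ∃ r : Root D, half D ≤ (r : ℕ) ∧ (h.rootPerm w r : ℕ) < half D ∧
      T.isMin r = true := by
    obtain ⟨i, v, hwv, -, hlen⟩ := ChevSubfield.exists_goesUp_of_ne_one hW h hw1
    have hni : ¬ GoesUp hW h i w := by
      rw [goesUp_iff, hwv, ChevSubfield.simple_mul_cancel_left]
      rw [hwv] at hlen
      omega
    set s := (h.rootPerm w⁻¹ (pRoot hW i)).rev with hs
    have hh := hW.good.two_half
    have h1 : half D ≤ (s : ℕ) := by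
      simp only [GoesUp, not_le] at hni
      rw [hs, Fin.val_rev]
      omega
    have h2 : (h.rootPerm w s : ℕ) < half D := by
      rw [hs, (monBy_nW (F := F) hW h w).apply_rev, map_inv, Equiv.Perm.coe_inv,
        Equiv.apply_symm_apply]
      exact pRoot_rev_neg hW i
    obtain ⟨m, hm, hmin⟩ := exists_min hV s
    have step : ∀ q : Root D, half D ≤ (q : ℕ) → (h.rootPerm w q : ℕ) < half D →
        half D ≤ (rootP hV q : ℕ) ∧ (h.rootPerm w (rootP hV q) : ℕ) < half D := fun q a b =>
      ⟨(rootP_pos hV q).2 a, by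
        rw [← hcomm]
        by_contra hc
        have := (rootP_pos hV _).1 (not_lt.1 hc)
        omega⟩
    obtain ⟨a1, b1⟩ := step s h1 h2
    obtain ⟨a2, b2⟩ := step _ a1 b1
    rcases hm with rfl | rfl | rfl
    · exact ⟨_, h1, h2, hmin⟩
    · exact ⟨_, a1, b1, hmin⟩
    · exact ⟨_, a2, b2, hmin⟩
  obtain ⟨b, hb, b', hb', rfl⟩ := hw
  obtain ⟨s, hs⟩ := exists_fold hV r
  obtain ⟨hcol, hsupp⟩ := foldM_col (F := F) hV hmin s hs
  set n := nW hW h F w
  have e : ((n * b' : GL D.Idx F) : Matrix D.Idx D.Idx F) * foldM T D E F =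
      ((b⁻¹ : GL D.Idx F) : Matrix D.Idx D.Idx F) * foldM T D E F := by
    conv_rhs => rw [← hk]
    rw [← Matrix.mul_assoc, ← Units.val_mul]
    congr 2
    group
  have e1 := congrFun (congrFun e (Sum.inr (h.rootPerm w r))) (Sum.inr s)
  have hR : (((b⁻¹ : GL D.Idx F) : Matrix D.Idx D.Idx F) * foldM T D E F)
      (Sum.inr (h.rootPerm w r)) (Sum.inr s) = 0 := by
    rw [Matrix.mul_apply]
    refine Finset.sum_eq_zero fun x _ => ?_
    by_cases hx : foldM T D E F x (Sum.inr s) = 0
    · rw [hx, mul_zero]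
    obtain ⟨q, hq, rfl⟩ : ∃ q : Root D, (r : ℕ) ≤ q ∧ x = Sum.inr q := by
      rcases hsupp x hx with e | ⟨q, hq, e⟩
      exacts [⟨r, le_rfl, e⟩, ⟨q, by omega, e⟩]
    rw [(E6Fold.borel_entries hW (inv_mem hb)).1 _ _ (fun e => ?_) (ord_le (by omega)), zero_mul]
    rw [Sum.inr.injEq] at e; rw [e] at hwr; omega
  have hn := E6Fold.col_nW (F := F) hW h w
  have hrow : ∀ x, x ≠ Sum.inr r →
      (n : Matrix D.Idx D.Idx F) (Sum.inr (h.rootPerm w r)) x = 0 := by
    intro x hx
    by_contra hne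
    rcases x with j | q
    · obtain ⟨i, hi⟩ := hn.2 j _ hne
      simp at hi
    · exact hx (congrArg Sum.inr ((h.rootPerm w).injective (Sum.inr.inj (hn.1 q _ hne))).symm)
  have hnz : (n : Matrix D.Idx D.Idx F) (Sum.inr (h.rootPerm w r)) (Sum.inr r) ≠ 0 := by
    intro h0
    have h1 : ((n⁻¹ * n : GL D.Idx F) : Matrix D.Idx D.Idx F) (Sum.inr r) (Sum.inr r) = 0 := by
      rw [Units.val_mul, Matrix.mul_apply]
      refine Finset.sum_eq_zero fun x _ => ?_
      by_cases hx : x = Sum.inr (h.rootPerm w r)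
      · rw [hx, h0, mul_zero]
      · rw [not_not.1 fun hne => hx (hn.1 r x hne), mul_zero]
    simp at h1
  have hbr := E6Fold.borel_entries hW hb'
  have hL : (((n * b' : GL D.Idx F) : Matrix D.Idx D.Idx F) * foldM T D E F)
      (Sum.inr (h.rootPerm w r)) (Sum.inr s) = (n : Matrix D.Idx D.Idx F)
        (Sum.inr (h.rootPerm w r)) (Sum.inr r) * ((b' : Matrix D.Idx D.Idx F) (Sum.inr r) (Sum.inr r)
        * (T.coef r : F)) := by
    rw [Units.val_mul, Matrix.mul_assoc, Matrix.mul_apply, Finset.sum_eq_single (Sum.inr r)]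
    · congr 1
      rw [Matrix.mul_apply, Finset.sum_eq_single (Sum.inr r), hcol]
      · intro x _ hx
        by_cases hx0 : foldM T D E F x (Sum.inr s) = 0
        · rw [hx0, mul_zero]
        obtain ⟨q, hq, rfl⟩ := (hsupp x hx0).resolve_left hx
        rw [hbr.1 _ _ (Ne.symm hx) (ord_le (by omega)), zero_mul]
      · simp
    · intro x _ hx
      rw [hrow x hx, zero_mul]
    · simp
  rw [hL, hR] at e1
  exact mul_ne_zero hnz (mul_ne_zero (hbr.2 _) (left_ne_zero_of_mul_eq_one (coef_sq hV r))) e1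

theorem kernel_mem_pos (hW : GoodWeyl D) (h : Weyl.RootGood C M R) {g : GL D.Idx F}
    (hg : g ∈ D.group F) (hf : psi hV g = g)
    (hk : (g : Matrix D.Idx D.Idx F) * foldM T D E F = foldM T D E F) :
    g ∈ D.posUnipotent F := by
  obtain ⟨u, hu, k, hkd, rfl⟩ := (mem_borel_iff hW).1 (kernel_mem_borel hV hW h hg hf hk)
  have hk2 := (borel_parts hV hW hu hkd hf).2
  suffices k = 1 by rwa [this, mul_one]
  rw [diagonalSubgroup_eq_range hW] at hkd
  obtain ⟨c, rfl⟩ := hkd
  have hchi : ∀ r : Root D, ChevFieldAut.chi c (rootP hV r) = ChevFieldAut.chi c r := by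
    intro r
    have h1 := congrArg (psi hV) (ChevFieldAut.torC_mul_X (F := F) hW.good c r 1)
    rw [map_mul, map_mul, psi_X hV hW, psi_X hV hW, show psi hV (torC D c) = torC D c from hk2,
      ChevFieldAut.torC_mul_X hW.good] at h1
    have h2 := X_injective hW.good _ (mul_right_cancel h1)
    refine Units.ext (mul_right_cancel₀ (left_ne_zero_of_mul_eq_one (sgnR_sq (F := F) hV r)) ?_)
    simpa [mul_comm] using h2
  have hlow : IsLower false (u : Matrix D.Idx D.Idx F) :=
    isLower_of_mem (m := half D) hW.good ((posUnipotent_eq hW.good).le hu)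
  have hone : ∀ r : Root D, T.isMin r = true → ChevFieldAut.chi c r = 1 := by
    intro r hmin
    obtain ⟨s, hs⟩ := exists_fold hV r
    obtain ⟨hcol, hsupp⟩ := foldM_col (F := F) hV hmin s hs
    have e1 := congrFun (congrFun hk (Sum.inr r)) (Sum.inr s)
    have hd : ∀ b, ((u * torHom D F c : GL D.Idx F) : Matrix D.Idx D.Idx F) (Sum.inr r) b =
        (u : Matrix D.Idx D.Idx F) (Sum.inr r) b *
          ((∏ k : Fin D.rank, c k ^ wt D k b : Fˣ) : F) := fun b => by
      rw [Units.val_mul, show ((torHom D F c : GL D.Idx F) : Matrix D.Idx D.Idx F) = _ from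
        ChevFieldAut.coe_torC c, Matrix.mul_diagonal]
    rw [Matrix.mul_apply, Finset.sum_eq_single (Sum.inr r), hcol, hd, hlow.1, one_mul] at e1
    · refine Units.ext (mul_right_cancel₀ (left_ne_zero_of_mul_eq_one (coef_sq (F := F) hV r)) ?_)
      rw [Units.val_one, one_mul]
      simpa [ChevFieldAut.chi] using e1
    · intro x _ hx
      by_cases hx0 : foldM T D E F x (Sum.inr s) = 0
      · rw [hx0, mul_zero]
      obtain ⟨q, hq, rfl⟩ := (hsupp x hx0).resolve_left hx
      rw [hd, hlow.2 _ _ (Ne.symm hx) (ord_le (by omega)), zero_mul, zero_mul]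
    · simp
  apply Units.ext
  show ((torC D c : GL D.Idx F) : Matrix D.Idx D.Idx F) = 1
  rw [ChevFieldAut.coe_torC, ← Matrix.diagonal_one]
  congr 1
  funext a
  rcases a with j | r
  · simp
  · have hc1 : ChevFieldAut.chi c r = 1 := by
      obtain ⟨m, hm, hmin⟩ := exists_min hV r
      have := hone m hmin
      rcases hm with rfl | rfl | rfl
      · exact this
      · rwa [hchi] at this
      · rwa [hchi, hchi] at this
    simpa [ChevFieldAut.chi] using congrArg Units.val hc1

theorem kernel_eq_one (hW : GoodWeyl D) (h : Weyl.RootGood C M R) {g : GL D.Idx F}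
    (hg : g ∈ sFix hV hW F) (hWE : GoodWeyl E)
    (hk : (g : Matrix D.Idx D.Idx F) * foldM T D E F = foldM T D E F) : g = 1 := by
  obtain ⟨-, m, hm, hneg⟩ := chain_top (F := F) hV hW
  have hU := kernel_mem_pos hV hW h (sFix_le_group hV hW hg) (psi_sFix hV hW hg) hk
  obtain ⟨a, -, ea⟩ := exists_image hV hW hWE hm
  obtain ⟨a', -, ea'⟩ := exists_image hV hW hWE (inv_mem hm)
  have hk' : ((m⁻¹ * g * m : GL D.Idx F) : Matrix D.Idx D.Idx F) * foldM T D E F =
      foldM T D E F := by
    have h1 : a' * a = 1 := by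
      refine Units.ext (foldM_cancel hV ?_)
      rw [Units.val_one, Matrix.mul_one, Units.val_mul, ← Matrix.mul_assoc, ← ea', Matrix.mul_assoc,
        ← ea, ← Matrix.mul_assoc, ← Units.val_mul, inv_mul_cancel, Units.val_one, Matrix.one_mul]
    rw [Units.val_mul, Units.val_mul, Matrix.mul_assoc, ea, Matrix.mul_assoc,
      ← Matrix.mul_assoc (g : Matrix D.Idx D.Idx F), hk, ← Matrix.mul_assoc, ea', Matrix.mul_assoc,
      ← Units.val_mul, h1, Units.val_one, Matrix.mul_one]
  have hin := kernel_mem_pos hV hW h (sFix_le_group hV hW (mul_mem (mul_mem (inv_mem hm) hg) hm))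
    (psi_sFix hV hW (mul_mem (mul_mem (inv_mem hm) hg) hm)) hk'
  have h2 : m⁻¹ * g * m ∈ D.borelSubgroup F ⊓ D.negUnipotent F :=
    Subgroup.mem_inf.2 ⟨pos_le_borel D hin, hneg g hU⟩
  rw [borel_inf_neg hW, Subgroup.mem_bot] at h2
  rw [show g = m * (m⁻¹ * g * m) * m⁻¹ by group, h2]
  simp

/-- Folding. -/
theorem nonempty_foldEquiv (hW : GoodWeyl D) (hWE : GoodWeyl E) (h : Weyl.RootGood C M R) :
    Nonempty (↥(sFix hV hW F) ≃* ↥(E.group F)) := by
  choose f hf₁ hf₂ using fun g : ↥(sFix hV hW F) => exists_image hV hW hWE g.2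
  let φ : ↥(sFix hV hW F) →* ↥(E.group F) := MonoidHom.mk' (fun g => ⟨f g, hf₁ g⟩) fun a b => by
    apply Subtype.ext
    apply Units.ext
    refine foldM_cancel hV ?_
    show foldM T D E F * (f (a * b) : Matrix E.Idx E.Idx F) = foldM T D E F * ((f a * f b : GL E.Idx F) : Matrix E.Idx E.Idx F)
    rw [← hf₂, Subgroup.coe_mul, Units.val_mul, Units.val_mul, Matrix.mul_assoc, hf₂ b,
      ← Matrix.mul_assoc, hf₂ a, Matrix.mul_assoc]
  refine ⟨MulEquiv.ofBijective φ ⟨?_, ?_⟩⟩
  · rw [injective_iff_map_eq_one]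
    intro g hg
    apply Subtype.ext
    refine kernel_eq_one hV hW h g.2 hWE ?_
    have : f g = 1 := congrArg Subtype.val hg
    rw [hf₂ g, this, Units.val_one, Matrix.mul_one]
  · rintro ⟨m, hm⟩
    have key : ∃ g ∈ sFix hV hW F, (g : Matrix D.Idx D.Idx F) * foldM T D E F =
        foldM T D E F * (m : Matrix E.Idx E.Idx F) := by
      rw [group_eq_closure hWE.good] at hm
      induction hm using Subgroup.closure_induction with
      | mem x hx =>
        obtain ⟨s, t, rfl⟩ := hx
        obtain ⟨r, hr⟩ := exists_root hV s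
        refine ⟨_, orbEl_mem hV hW r ((T.coef r : F) * t), ?_⟩
        rw [orbEl_foldM hV hW hWE r s hr, ← mul_assoc, coef_sq hV, one_mul]
      | one => exact ⟨1, one_mem _, by simp⟩
      | mul x y _ _ hx hy =>
        obtain ⟨a, ha, ea⟩ := hx
        obtain ⟨b, hb, eb⟩ := hy
        exact ⟨a * b, mul_mem ha hb, by
          rw [Units.val_mul, Units.val_mul, Matrix.mul_assoc, eb, ← Matrix.mul_assoc, ea,
            Matrix.mul_assoc]⟩
      | inv x _ hx =>
        obtain ⟨a, ha, ea⟩ := hx
        refine ⟨a⁻¹, inv_mem ha, ?_⟩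
        have := congrArg (fun M => ((a⁻¹ : GL D.Idx F) : Matrix D.Idx D.Idx F) * M *
          ((x⁻¹ : GL E.Idx F) : Matrix E.Idx E.Idx F)) ea
        simp only [← Matrix.mul_assoc, ← Units.val_mul, inv_mul_cancel, Units.val_one,
          Matrix.one_mul] at this
        rw [Matrix.mul_assoc (((a⁻¹ : GL D.Idx F) : Matrix D.Idx D.Idx F) * _), ← Units.val_mul,
          mul_inv_cancel, Units.val_one, Matrix.mul_one] at this
        exact this.symm
    obtain ⟨g, hg, e⟩ := key
    refine ⟨⟨g, hg⟩, Subtype.ext (Units.ext (foldM_cancel hV ?_))⟩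
    show foldM T D E F * (f ⟨g, hg⟩ : Matrix E.Idx E.Idx F) = _
    rw [← hf₂]
    exact e

end CfsgLib.D4Fold
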