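import Cfsg.Agent.D4Fold.Checks
import Cfsg.Agent.Chevalley.Bruhat

/-!
The graph symmetry of order three as conjugation by a signed permutation matrix, and the
commutations inside an orbit of fundamental roots.
-/

set_option autoImplicit false

namespace CfsgLib.D4Fold

open Cfsg.Lie CfsgLib CfsgLib.Chevalley CfsgLib.E6Fold
open scoped MatrixGroups

variable {D E : ChevalleyDatum} {T : Tables} {F : Type*} [Field F]

theorem erev (r : Root D) : ((r.rev : Root D) : ℕ) = opp D r := by
  rw [opp, Fin.val_rev]; omega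

theorem commute_of_commOK (hW : GoodWeyl D) {r s : Root D}
    (h : Tables.commOK D r s = true) (t u : F) :
    Commute (X hW.good r t) (X hW.good s u) := by
  simp only [Tables.commOK, Bool.and_eq_true, bne_iff_ne, List.isEmpty_iff] at h
  obtain ⟨⟨h1, h2⟩, h3⟩ := h
  rw [commute_iff_eq, X_comm hW.toGoodComm r s (fun e => h1 (congrArg Fin.val e))
    (fun e => h2 (by rw [e, Fin.val_rev, opp]; omega)) t u, commRhs, h3]
  simp [wordGL]

variable (hV : T.Valid D E)
include hV

theorem root_facts {r : ℕ} (hr : r < D.nroots) :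
    T.root r < D.nroots ∧ T.root (T.root (T.root r)) = r ∧
      T.root (opp D r) = opp D (T.root r) ∧ (half D ≤ r ↔ half D ≤ T.root r) ∧
      (T.sgn3 r).natAbs = 1 ∧ T.sgn3 (opp D r) = T.sgn3 r ∧
      (if T.root r = r then T.sgn3 r = 1
        else T.sgn3 r * (T.sgn3 (T.root r) * T.sgn3 (T.root (T.root r))) = 1) ∧
      ∀ i < D.rank, T.root (reflT D i r) = reflT D (T.node i) (T.root r) := by
  have h := hV.perm
  simp only [Tables.chkPerm, Bool.and_eq_true, List.all_eq_true, List.mem_range,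
    decide_eq_true_eq, beq_iff_eq, decide_eq_decide, Bool.cond_eq_ite,
    apply_ite (· = true)] at h
  obtain ⟨⟨⟨⟨⟨⟨⟨h1, h2⟩, h3⟩, h4⟩, h5⟩, h6⟩, h7⟩, h8⟩ := h.1 r hr
  exact ⟨h1, h2, h3, h4, h5, h6, h7, h8⟩

theorem node_facts {i : ℕ} (hi : i < D.rank) :
    T.node i < D.rank ∧ T.node (T.node (T.node i)) = i ∧
      T.root (D.simple i) = D.simple (T.node i) ∧ T.sgn3 (D.simple i) = 1 ∧
      (T.node i ≠ i → T.node (T.node i) ≠ i ∧
        reflT D i (D.simple (T.node i)) = D.simple (T.node i) ∧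
        reflT D (T.node i) (D.simple i) = D.simple i ∧
        Tables.commOK D (D.simple i) (D.simple (T.node i)) = true ∧
        Tables.commOK D (D.simple i) (opp D (D.simple (T.node i))) = true ∧
        Tables.commOK D (opp D (D.simple i)) (D.simple (T.node i)) = true ∧
        Tables.commOK D (opp D (D.simple i)) (opp D (D.simple (T.node i))) = true ∧
        ∀ r < D.nroots, reflT D i (reflT D (T.node i) r) = reflT D (T.node i) (reflT D i r)) := by
  have h := hV.perm
  simp only [Tables.chkPerm, Bool.and_eq_true, List.all_eq_true, List.mem_range,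
    decide_eq_true_eq, beq_iff_eq, Bool.or_eq_true, bne_iff_ne] at h
  obtain ⟨⟨⟨⟨h1, h2⟩, h3⟩, h4⟩, h5⟩ := h.2 i hi
  refine ⟨h1, h2, h3, h4, fun hne => ?_⟩
  obtain ⟨⟨⟨⟨⟨⟨⟨a, b⟩, c⟩, d⟩, e⟩, f⟩, g⟩, k⟩ := h5.resolve_left hne
  exact ⟨a, b, c, d, e, f, g, k⟩

/-- The symmetry of the nodes. -/
def nodeP : Equiv.Perm (Fin D.rank) where
  toFun i := ⟨T.node i, (node_facts hV i.isLt).1⟩
  invFun i := ⟨T.node (T.node i), (node_facts hV (node_facts hV i.isLt).1).1⟩
  left_inv i := Fin.ext (node_facts hV i.isLt).2.1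
  right_inv i := Fin.ext (node_facts hV i.isLt).2.1

/-- The symmetry of the roots. -/
def rootP : Equiv.Perm (Root D) where
  toFun r := ⟨T.root r, (root_facts hV r.isLt).1⟩
  invFun r := ⟨T.root (T.root r), (root_facts hV (root_facts hV r.isLt).1).1⟩
  left_inv r := Fin.ext (root_facts hV r.isLt).2.1
  right_inv r := Fin.ext (root_facts hV r.isLt).2.1

omit [Field F] in
theorem nodeP3 (i : Fin D.rank) : nodeP hV (nodeP hV (nodeP hV i)) = i :=
  Fin.ext (node_facts hV i.isLt).2.1

theorem rootP3 (r : Root D) : rootP hV (rootP hV (rootP hV r)) = r :=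
  Fin.ext (root_facts hV r.isLt).2.1

theorem rootP_pos (r : Root D) : half D ≤ (rootP hV r : ℕ) ↔ half D ≤ (r : ℕ) :=
  (root_facts hV r.isLt).2.2.2.1.symm

theorem rootP_rev (r : Root D) : rootP hV r.rev = (rootP hV r).rev := by
  apply Fin.ext
  show T.root (r.rev : Root D) = _
  rw [erev, erev, (root_facts hV r.isLt).2.2.1]
  rfl

theorem rootP_pRoot (hW : GoodWeyl D) (i : Fin D.rank) :
    rootP hV (pRoot hW i) = pRoot hW (nodeP hV i) :=
  Fin.ext (node_facts hV i.isLt).2.2.1

theorem rootP_wPerm (hW : GoodWeyl D) (i : Fin D.rank) (r : Root D) :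
    rootP hV (wPerm hW i r) = wPerm hW (nodeP hV i) (rootP hV r) :=
  Fin.ext ((root_facts hV r.isLt).2.2.2.2.2.2.2 i i.isLt)

omit hV in
/-- The sign of the symmetry at a root. -/
def sgnR (T : Tables) (F : Type*) [Field F] (r : Root D) : F := (T.sgn3 r : F)

theorem sgnR_sq (r : Root D) : sgnR T F r * sgnR T F r = 1 := by
  rcases Int.natAbs_eq_iff.1 (root_facts hV r.isLt).2.2.2.2.1 with h | h <;> simp [sgnR, h]

theorem sgnR_rev (r : Root D) : sgnR T F r.rev = sgnR T F r := by
  rw [sgnR, sgnR, erev, (root_facts hV r.isLt).2.2.2.2.2.1]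

theorem sgnR_pRoot (hW : GoodWeyl D) (i : Fin D.rank) : sgnR T F (pRoot hW i) = 1 := by
  rw [sgnR, show ((pRoot hW i : Root D) : ℕ) = D.simple i from rfl,
    (node_facts hV i.isLt).2.2.2.1, Int.cast_one]

theorem sgnR_fixed {r : Root D} (h : rootP hV r = r) : sgnR T F r = 1 := by
  have h' : T.root r = r := congrArg Fin.val h
  have := (root_facts hV r.isLt).2.2.2.2.2.2.1
  rw [if_pos h'] at this
  rw [sgnR, this, Int.cast_one]

theorem sgnR_orbit {r : Root D} (h : rootP hV r ≠ r) :
    sgnR T F r * (sgnR T F (rootP hV r) * sgnR T F (rootP hV (rootP hV r))) = 1 := by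
  have h' : T.root r ≠ r := fun e => h (Fin.ext e)
  have := (root_facts hV r.isLt).2.2.2.2.2.2.1
  rw [if_neg h'] at this
  show ((T.sgn3 r : F) * ((T.sgn3 (T.root r) : F) * (T.sgn3 (T.root (T.root r)) : F))) = 1
  rw [← Int.cast_mul, ← Int.cast_mul, this, Int.cast_one]

theorem commute_orbit (hW : GoodWeyl D) (r : Root D) (t u : F) (hne : rootP hV r ≠ r) :
    Commute (X hW.good r t) (X hW.good (rootP hV r) u) ∧
      Commute (X hW.good r t) (X hW.good (rootP hV (rootP hV r)) u) := by
  have h := hV.commute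
  simp only [Tables.chkCommute, List.all_eq_true, List.mem_range, Bool.or_eq_true, beq_iff_eq,
    Bool.and_eq_true] at h
  obtain ⟨h1, h2⟩ := (h r r.isLt).resolve_left fun e => hne (Fin.ext e)
  exact ⟨commute_of_commOK hW h1 t u, commute_of_commOK hW h2 t u⟩

theorem node_ne (hW : GoodWeyl D) {i : Fin D.rank} (h : nodeP hV i ≠ i) :
    rootP hV (pRoot hW i) ≠ pRoot hW i := by
  intro e
  rw [rootP_pRoot hV hW] at e
  have h1 := congrArg (fun r : Root D => coT D r (nodeP hV i : Fin D.rank)) e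
  simp only [coT_eq] at h1
  rw [show ((pRoot hW (nodeP hV i) : Root D) : ℕ) = D.simple (nodeP hV i : Fin D.rank) from rfl,
    show ((pRoot hW i : Root D) : ℕ) = D.simple (i : Fin D.rank) from rfl,
    hW.good.coroot_simple (Fin.isLt _) (Fin.isLt _), hW.good.coroot_simple i.isLt (Fin.isLt _),
    if_pos rfl, if_neg (fun e => h (Fin.ext e.symm))] at h1
  simp at h1

theorem node_ne_next {i : Fin D.rank} (h : nodeP hV i ≠ i) :
    nodeP hV (nodeP hV i) ≠ nodeP hV i := fun e => h ((nodeP hV).injective e)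

/-- All root elements of `±α_i` commute with those of `±α_{π i}`. -/
theorem node_commute (hW : GoodWeyl D) {i : Fin D.rank} (h : nodeP hV i ≠ i) (b c : Bool) (t u : F) :
    Commute (X hW.good (if b then (pRoot hW i).rev else pRoot hW i) t)
      (X hW.good (if c then (pRoot hW (nodeP hV i)).rev else pRoot hW (nodeP hV i)) u) := by
  obtain ⟨-, -, -, h1, h2, h3, h4, -⟩ :=
    (node_facts hV i.isLt).2.2.2.2 fun e => h (Fin.ext e)
  cases b <;> cases c <;> simp only [Bool.false_eq_true, if_false, if_true] <;>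
    refine commute_of_commOK hW ?_ t u
  · exact h1
  · rw [erev]; exact h2
  · rw [erev]; exact h3
  · rw [erev, erev]; exact h4

theorem nElt_commute (hW : GoodWeyl D) {i : Fin D.rank} (h : nodeP hV i ≠ i) (t : Fˣ)
    (b : Bool) (u : F) :
    Commute (nElt hW.good (pRoot hW i) t)
      (X hW.good (if b then (pRoot hW (nodeP hV i)).rev else pRoot hW (nodeP hV i)) u) := by
  have k := fun c t => node_commute hV hW h (F := F) c b t u
  exact (((k false _).mul_left (k true _)).mul_left (k false _))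

theorem nElt_nElt_commute (hW : GoodWeyl D) {i : Fin D.rank} (h : nodeP hV i ≠ i) (t u : Fˣ) :
    Commute (nElt hW.good (pRoot hW i) t) (nElt hW.good (pRoot hW (nodeP hV i)) u) := by
  have k := fun b u => nElt_commute hV hW h t (F := F) b u
  exact ((k false _).mul_right (k true _)).mul_right (k false _)

theorem symm_mul :
    dMat F D D (T.permMat D) * dMat F D D (T.permInv D) = 1 ∧
      dMat F D D (T.permInv D) * dMat F D D (T.permMat D) = 1 := by
  have h := hV.symm
  simp only [Tables.chkSymm, Bool.and_eq_true] at h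
  obtain ⟨⟨⟨⟨-, hb⟩, hb'⟩, he⟩, he'⟩ := h
  have e1 := dMat_eq (F := F) (D := D) (E := D) he
  have e2 := dMat_eq (F := F) (D := D) (E := D) he'
  rw [dMat_mul hb, dMat_one] at e1
  rw [dMat_mul hb', dMat_one] at e2
  exact ⟨e1, e2⟩

/-- The signed permutation matrix. -/
noncomputable def symm : GL D.Idx F :=
  ⟨dMat F D D (T.permMat D), dMat F D D (T.permInv D), (symm_mul hV).1, (symm_mul hV).2⟩

/-- The graph symmetry. -/
noncomputable def psi : GL D.Idx F →* GL D.Idx F :=
  (MulAut.conj (symm (F := F) hV)).toMonoidHom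

theorem psi_X (hW : GoodWeyl D) (r : Root D) (t : F) :
    psi hV (X hW.good r t) = X hW.good (rootP hV r) (sgnR T F r * t) := by
  have h := hV.symm
  simp only [Tables.chkSymm, Bool.and_eq_true, List.all_eq_true, List.mem_range] at h
  obtain ⟨hs, e⟩ := interC_of_chk (F := F) hW.good hW.good (h.1.1.1.1 r r.isLt)
  have e := e t
  have hr' := (root_facts hV r.isLt).1
  simp only [List.map_cons, List.map_nil, List.prod_cons, List.prod_nil, mul_one,
    dif_pos hr', Fin.eta] at e
  apply Units.ext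
  simp only [psi, MulEquiv.coe_toMonoidHom, MulAut.conj_apply, Units.val_mul]
  show dMat F D D (T.permMat D) * _ * dMat F D D (T.permInv D) = _
  rw [← e, mul_assoc, (symm_mul hV).1, mul_one]
  rfl

theorem psi_X_pRoot (hW : GoodWeyl D) (i : Fin D.rank) (t : F) :
    psi hV (X hW.good (pRoot hW i) t) = X hW.good (pRoot hW (nodeP hV i)) t := by
  rw [psi_X hV hW, sgnR_pRoot hV hW, one_mul, rootP_pRoot hV hW]

theorem psi_X_pRoot_rev (hW : GoodWeyl D) (i : Fin D.rank) (t : F) :
    psi hV (X hW.good (pRoot hW i).rev t) = X hW.good (pRoot hW (nodeP hV i)).rev t := by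
  rw [psi_X hV hW, sgnR_rev hV, sgnR_pRoot hV hW, one_mul, rootP_rev, rootP_pRoot hV hW]

theorem psi_nR (hW : GoodWeyl D) (i : Fin D.rank) :
    psi hV (nR hW i : GL D.Idx F) = nR hW (nodeP hV i) := by
  rw [nR, nR, map_mul, map_mul, psi_X_pRoot hV hW, psi_X_pRoot_rev hV hW]

theorem psi_hT (hW : GoodWeyl D) (i : Fin D.rank) (t : Fˣ) :
    psi hV (hT F (pRoot hW i) t : GL D.Idx F) = hT F (pRoot hW (nodeP hV i)) t := by
  rw [← hElt_pRoot hW, ← hElt_pRoot hW, nElt, nElt, nElt, nElt, map_mul, map_mul, map_mul, map_mul,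
    map_mul, psi_X_pRoot hV hW, psi_X_pRoot_rev hV hW, psi_X_pRoot hV hW, psi_X_pRoot_rev hV hW]

theorem psi_mem_group (hW : GoodWeyl D) {g : GL D.Idx F} (hg : g ∈ D.group F) :
    psi hV g ∈ D.group F := by
  rw [group_eq_closure hW.good] at hg
  induction hg using Subgroup.closure_induction with
  | mem x hx =>
    obtain ⟨r, t, rfl⟩ := hx
    rw [psi_X hV hW]
    exact X_mem_group _ _ _
  | one => simp
  | mul x y _ _ hx hy => rw [map_mul]; exact mul_mem hx hy
  | inv x _ hx => rw [map_inv]; exact inv_mem hx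

end CfsgLib.D4Fold
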