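import Cfsg.Agent.D4Fold.Graph
import Cfsg.Agent.E6Fold.Unipotent
import Cfsg.Agent.ChevFieldAut.Basic

/-!
The positive unipotent elements fixed by a symmetry of order three are products of orbit root
elements, and a product of orbit reflections exchanges the two sides.
-/

set_option autoImplicit false

namespace CfsgLib.D4Fold

open Cfsg.Lie CfsgLib CfsgLib.Chevalley CfsgLib.E6Fold
open scoped MatrixGroups

variable {D E : ChevalleyDatum} {T : Tables} {F : Type*} [Field F]

theorem triple_swap {G : Type*} [Group G] {x y a b : G} (hxa : Commute x a) (hxb : Commute x b)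
    (hya : Commute y a) : x * y * x * (a * b * a) = x * a * (y * b) * (x * a) := by
  calc x * y * x * (a * b * a) = x * y * (x * a) * b * a := by group
    _ = x * (y * a) * (x * b) * a := by rw [hxa.eq]; group
    _ = x * (a * y) * (b * x) * a := by rw [hya.eq, hxb.eq]
    _ = _ := by group

/-- Conjugation by `n_b` keeps the vanishing of the entries at a root it fixes. -/
theorem entry_conj (hW : GoodWeyl D) {a b : Fin D.rank}
    (h : wPerm hW b (pRoot hW a) = pRoot hW a) {v : GL D.Idx F}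
    (hv : ∀ k, (v : Matrix D.Idx D.Idx F) (Sum.inl k) (Sum.inr (pRoot hW a).rev) = 0)
    (j : Fin D.rank) :
    ((nR hW b * v * (nR hW b)⁻¹ : GL D.Idx F) : Matrix D.Idx D.Idx F) (Sum.inl j)
      (Sum.inr (pRoot hW a).rev) = 0 := by
  obtain ⟨k, hk, hinv⟩ := exists_nR_inv_eq (F := F) hW b
  rw [diagonalSubgroup_eq_range hW] at hk
  obtain ⟨c, rfl⟩ := hk
  have hfix : wPerm hW b (pRoot hW a).rev = (pRoot hW a).rev := by rw [hW.wPerm_rev, h]
  rw [hinv, show ((nR hW b * v * (torHom D F c * nR hW b) : GL D.Idx F) :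
      Matrix D.Idx D.Idx F) = (nR hW b : GL D.Idx F).val * v.val *
      ((torHom D F c : GL D.Idx F).val * (nR hW b : GL D.Idx F).val) by simp,
    show ((torHom D F c : GL D.Idx F) : Matrix D.Idx D.Idx F) = _ from ChevFieldAut.coe_torC c,
    Matrix.mul_apply]
  refine Finset.sum_eq_zero fun e _ => ?_
  rw [Matrix.diagonal_mul]
  rcases e with l | s
  · simp [nR_apply hW]
  · by_cases hs : s = (pRoot hW a).rev
    · rw [hs, Matrix.mul_apply, Finset.sum_eq_zero, zero_mul]
      intro e _
      rcases e with l | s'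
      · rw [hv, mul_zero]
      · simp [nR_apply hW]
    · rw [show ((nR hW b : GL D.Idx F) : Matrix D.Idx D.Idx F) (Sum.inr s)
          (Sum.inr (pRoot hW a).rev) = 0 by simp [nR_apply hW, hfix, hs], mul_zero, mul_zero]

variable (hV : T.Valid D E)

/-- The root element of an orbit. -/
noncomputable def orbEl (hW : GoodWeyl D) (r : Root D) (t : F) : GL D.Idx F :=
  if rootP hV r = r then X hW.good r t else
    X hW.good r t * (X hW.good (rootP hV r) (sgnR T F r * t) *
      X hW.good (rootP hV (rootP hV r)) (sgnR T F r * sgnR T F (rootP hV r) * t))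

/-- The subgroup of the orbit root elements. -/
def sFix (hW : GoodWeyl D) (F : Type*) [Field F] : Subgroup (GL D.Idx F) :=
  Subgroup.closure {g | ∃ r, ∃ t : F, orbEl hV hW r t = g}

/-- The reflection of an orbit of nodes. -/
noncomputable def orbN (hW : GoodWeyl D) (i : Fin D.rank) : GL D.Idx F :=
  if nodeP hV i = i then nR hW i
  else nR hW i * nR hW (nodeP hV i) * nR hW (nodeP hV (nodeP hV i))

include hV

theorem orbEl_mem (hW : GoodWeyl D) (r : Root D) (t : F) : orbEl hV hW r t ∈ sFix hV hW F :=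
  Subgroup.subset_closure ⟨r, t, rfl⟩

theorem sFix_le_group (hW : GoodWeyl D) : sFix hV hW F ≤ D.group F := by
  rw [sFix, Subgroup.closure_le]
  rintro _ ⟨r, t, rfl⟩
  rw [orbEl]
  split_ifs
  · exact X_mem_group _ _ _
  · exact mul_mem (X_mem_group _ _ _) (mul_mem (X_mem_group _ _ _) (X_mem_group _ _ _))

theorem psi_orbEl (hW : GoodWeyl D) (r : Root D) (t : F) :
    psi hV (orbEl hV hW r t) = orbEl hV hW r t := by
  by_cases h : rootP hV r = r
  · rw [orbEl, if_pos h, psi_X hV hW, h, sgnR_fixed hV h, one_mul]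
  · have hr2 : rootP hV (rootP hV r) ≠ rootP hV r := fun e => h ((rootP hV).injective e)
    have e := sgnR_orbit (F := F) hV h
    rw [orbEl, if_neg h, map_mul, map_mul, psi_X hV hW, psi_X hV hW, psi_X hV hW, rootP3]
    rw [show sgnR T F (rootP hV r) * (sgnR T F r * t) =
        sgnR T F r * sgnR T F (rootP hV r) * t by ring,
      show sgnR T F (rootP hV (rootP hV r)) * (sgnR T F r * sgnR T F (rootP hV r) * t) =
        (sgnR T F r * (sgnR T F (rootP hV r) * sgnR T F (rootP hV (rootP hV r)))) * t by ring,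
      e, one_mul, ← mul_assoc]
    have c := commute_orbit hV hW r t (sgnR T F r * t) h
    have c' := commute_orbit hV hW r t (sgnR T F r * sgnR T F (rootP hV r) * t) h
    exact ((c.1.mul_right c'.2).eq).symm

theorem psi_sFix (hW : GoodWeyl D) {g : GL D.Idx F} (hg : g ∈ sFix hV hW F) : psi hV g = g := by
  induction hg using Subgroup.closure_induction with
  | mem x hx =>
    obtain ⟨r, t, rfl⟩ := hx
    exact psi_orbEl hV hW r t
  | one => exact map_one _
  | mul x y _ _ hx hy => rw [map_mul, hx, hy]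
  | inv x _ hx => rw [map_inv, hx]

theorem orbEl_pRoot (hW : GoodWeyl D) {i : Fin D.rank} (h : nodeP hV i ≠ i) (t : F) :
    orbEl hV hW (pRoot hW i) t = X hW.good (pRoot hW i) t *
      (X hW.good (pRoot hW (nodeP hV i)) t * X hW.good (pRoot hW (nodeP hV (nodeP hV i))) t) := by
  rw [orbEl, if_neg (node_ne hV hW h), sgnR_pRoot hV hW, rootP_pRoot hV hW, sgnR_pRoot hV hW,
    rootP_pRoot hV hW]
  simp only [one_mul]

theorem orbEl_pRoot_rev (hW : GoodWeyl D) {i : Fin D.rank} (h : nodeP hV i ≠ i) (t : F) :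
    orbEl hV hW (pRoot hW i).rev t = X hW.good (pRoot hW i).rev t *
      (X hW.good (pRoot hW (nodeP hV i)).rev t *
        X hW.good (pRoot hW (nodeP hV (nodeP hV i))).rev t) := by
  have hne : rootP hV (pRoot hW i).rev ≠ (pRoot hW i).rev := fun e => node_ne hV hW h (by
    rwa [rootP_rev, Fin.rev_inj] at e)
  rw [orbEl, if_neg hne, sgnR_rev hV, sgnR_pRoot hV hW, rootP_rev, rootP_pRoot hV hW,
    sgnR_rev hV, sgnR_pRoot hV hW, rootP_rev, rootP_pRoot hV hW]
  simp only [one_mul]

/-- The three pairs of an orbit of fundamental roots commute. -/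
theorem node_commute3 (hW : GoodWeyl D) {i : Fin D.rank} (h : nodeP hV i ≠ i) (b c : Bool)
    (t u : F) :
    Commute (X hW.good (if b then (pRoot hW i).rev else pRoot hW i) t)
      (X hW.good (if c then (pRoot hW (nodeP hV (nodeP hV i))).rev
        else pRoot hW (nodeP hV (nodeP hV i))) u) := by
  have h2 : nodeP hV (nodeP hV (nodeP hV i)) ≠ nodeP hV (nodeP hV i) :=
    node_ne_next hV (node_ne_next hV h)
  have := node_commute hV hW h2 c b u t
  rw [nodeP3] at this
  exact this.symm

theorem nElt_triple_mem (hW : GoodWeyl D) {i : Fin D.rank} (h : nodeP hV i ≠ i) (t : Fˣ) :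
    nElt hW.good (pRoot hW i) t * nElt hW.good (pRoot hW (nodeP hV i)) t *
      nElt hW.good (pRoot hW (nodeP hV (nodeP hV i))) t ∈ sFix hV hW F := by
  have c12 := fun b c t u => node_commute hV hW h (F := F) b c t u
  have c13 := fun b c t u => node_commute3 hV hW h (F := F) b c t u
  have c23 := fun b c t u => node_commute hV hW (node_ne_next hV h) (F := F) b c t u
  have : nElt hW.good (pRoot hW i) t * nElt hW.good (pRoot hW (nodeP hV i)) t *
      nElt hW.good (pRoot hW (nodeP hV (nodeP hV i))) t =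
      orbEl hV hW (pRoot hW i) (t : F) * orbEl hV hW (pRoot hW i).rev (-(t⁻¹ : Fˣ) : F) *
        orbEl hV hW (pRoot hW i) (t : F) := by
    simp only [Bool.forall_bool, Bool.false_eq_true, if_false, if_true] at c12 c13 c23
    rw [nElt, nElt, nElt, orbEl_pRoot hV hW h, orbEl_pRoot_rev hV hW h,
      triple_swap (c12.1.1 _ _) (c12.1.2 _ _) (c12.2.1 _ _),
      triple_swap ((c13.1.1 _ _).mul_left (c23.1.1 _ _))
        ((c13.1.2 _ _).mul_left (c23.1.2 _ _))
        ((c13.2.1 _ _).mul_left (c23.2.1 _ _))]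
    simp only [mul_assoc]
  rw [this]
  exact mul_mem (mul_mem (orbEl_mem hV hW _ _) (orbEl_mem hV hW _ _)) (orbEl_mem hV hW _ _)

theorem nElt_single_mem (hW : GoodWeyl D) {i : Fin D.rank} (h : nodeP hV i = i) (t : Fˣ) :
    nElt hW.good (pRoot hW i) t ∈ sFix hV hW F := by
  have hp : rootP hV (pRoot hW i) = pRoot hW i := by rw [rootP_pRoot hV hW, h]
  have e1 : ∀ a : F, orbEl hV hW (pRoot hW i) a = X hW.good (pRoot hW i) a := fun a => by
    rw [orbEl, if_pos hp]
  have e2 : ∀ a : F, orbEl hV hW (pRoot hW i).rev a = X hW.good (pRoot hW i).rev a := fun a => by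
    rw [orbEl, if_pos (by rw [rootP_rev, hp])]
  rw [nElt, ← e1, ← e2]
  exact mul_mem (mul_mem (orbEl_mem hV hW _ _) (orbEl_mem hV hW _ _)) (orbEl_mem hV hW _ _)

theorem orbN_mem (hW : GoodWeyl D) (i : Fin D.rank) :
    (orbN hV hW i : GL D.Idx F) ∈ sFix hV hW F := by
  rw [orbN]
  split_ifs with h
  · rw [← nElt_one hW]; exact nElt_single_mem hV hW h 1
  · rw [← nElt_one hW, ← nElt_one hW, ← nElt_one hW]; exact nElt_triple_mem hV hW h 1

theorem monBy_orbN (hW : GoodWeyl D) (i : Fin D.rank) : MonBy hW (orbN hV hW i : GL D.Idx F)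
    (if nodeP hV i = i then wPerm hW i
      else wPerm hW i * wPerm hW (nodeP hV i) * wPerm hW (nodeP hV (nodeP hV i))) := by
  rw [orbN]
  split_ifs
  · exact monBy_nR hW i
  · exact ((monBy_nR hW i).mul (monBy_nR hW _)).mul (monBy_nR hW _)

theorem psi_posCompl (hW : GoodWeyl D) (i : Fin D.rank) {v : GL D.Idx F}
    (hv : v ∈ rootGen hW.good F (posCompl hW i)) :
    psi hV v ∈ rootGen hW.good F (posCompl hW (nodeP hV i)) := by
  induction hv using Subgroup.closure_induction with
  | mem x hx =>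
    obtain ⟨r, ⟨hr, hne⟩, t, rfl⟩ := hx
    rw [psi_X hV hW]
    refine X_mem_rootGen _ (S := posCompl hW (nodeP hV i))
      (show _ ∧ _ from ⟨(rootP_pos hV r).2 hr, fun e => hne ?_⟩) _
    rw [← rootP_pRoot hV hW] at e
    exact (rootP hV).injective e
  | one => simp
  | mul x y _ _ hx hy => rw [map_mul]; exact mul_mem hx hy
  | inv x _ hx => rw [map_inv]; exact inv_mem hx

theorem wPerm_node_fix (hW : GoodWeyl D) {i : Fin D.rank} (h : nodeP hV i ≠ i) :
    wPerm hW i (pRoot hW (nodeP hV i)) = pRoot hW (nodeP hV i) ∧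
      wPerm hW (nodeP hV i) (pRoot hW i) = pRoot hW i := by
  obtain ⟨-, h1, h2, -⟩ := (node_facts hV i.isLt).2.2.2.2 fun e => h (Fin.ext e)
  exact ⟨Fin.ext h1, Fin.ext h2⟩

/-- Removing the coordinate along an orbit of fundamental roots. -/
theorem exists_strip (hW : GoodWeyl D) (i : Fin D.rank) {u : GL D.Idx F}
    (hu : u ∈ D.posUnipotent F) (hf : psi hV u = u) :
    ∃ t : F, orbN hV hW i * (u * (orbEl hV hW (pRoot hW i) t)⁻¹) * (orbN hV hW i)⁻¹ ∈
      D.posUnipotent F := by
  obtain ⟨v, hv, t, rfl⟩ := exists_split_pos hW i hu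
  by_cases h : nodeP hV i = i
  · refine ⟨t, ?_⟩
    rw [orbN, if_pos h, orbEl, if_pos (by rw [rootP_pRoot hV hW, h]), mul_inv_cancel_right]
    exact rootGen_posCompl_le hW i (nR_conj_posCompl hW i hv)
  have hj := node_ne_next hV h
  set j := nodeP hV i with hjdef
  set k := nodeP hV j with hkdef
  have hki : nodeP hV k = i := nodeP3 hV i
  have hk : nodeP hV k ≠ k := node_ne_next hV hj
  have hinj : ∀ a, nodeP hV a ≠ a → pRoot hW (nodeP hV a) ≠ pRoot hW a := fun a ha e =>
    node_ne hV hW ha (by rw [rootP_pRoot hV hW, e])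
  have memC : ∀ a b, pRoot hW b ≠ pRoot hW a → ∀ x : F,
      X hW.good (pRoot hW b) x ∈ rootGen hW.good F (posCompl hW a) := fun a b hab x =>
    X_mem_rootGen hW.good (S := posCompl hW a) (show _ ∧ _ from ⟨pRoot_pos hW b, hab⟩) x
  have nji : pRoot hW j ≠ pRoot hW i := hinj i h
  have nkj : pRoot hW k ≠ pRoot hW j := hinj j hj
  have nik : pRoot hW i ≠ pRoot hW k := by have := hinj k hk; rwa [hki] at this
  have strip1 : ∀ {a b : Fin D.rank} {w : GL D.Idx F} {x : F}, pRoot hW b ≠ pRoot hW a →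
      w * X hW.good (pRoot hW b) x ∈ rootGen hW.good F (posCompl hW a) →
      w ∈ rootGen hW.good F (posCompl hW a) := by
    intro a b w x hab hw
    have := mul_mem hw (inv_mem (memC a b hab x))
    rwa [mul_inv_cancel_right] at this
  obtain ⟨v2, hv2, t2, rfl⟩ := exists_split_pos hW j (rootGen_posCompl_le hW i hv)
  have hv2i : v2 ∈ rootGen hW.good F (posCompl hW i) := strip1 nji hv
  obtain ⟨v3, hv3, t3, rfl⟩ := exists_split_pos hW k (rootGen_posCompl_le hW j hv2)
  have hv3i : v3 ∈ rootGen hW.good F (posCompl hW i) := strip1 nik.symm hv2i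
  have hv3j : v3 ∈ rootGen hW.good F (posCompl hW j) := strip1 nkj hv2
  have hψi : psi hV v3 ∈ rootGen hW.good F (posCompl hW i) := by
    have := psi_posCompl hV hW k hv3
    rwa [hki] at this
  have hψj : psi hV v3 ∈ rootGen hW.good F (posCompl hW j) := psi_posCompl hV hW i hv3i
  have cij : ∀ x y : F, Commute (X hW.good (pRoot hW i) x) (X hW.good (pRoot hW j) y) :=
    fun x y => node_commute hV hW h false false x y
  have cjk : ∀ x y : F, Commute (X hW.good (pRoot hW j) x) (X hW.good (pRoot hW k) y) :=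
    fun x y => node_commute hV hW hj false false x y
  have cik : ∀ x y : F, Commute (X hW.good (pRoot hW i) x) (X hW.good (pRoot hW k) y) :=
    fun x y => node_commute3 hV hW h false false x y
  have e0 := hf
  rw [map_mul, map_mul, map_mul, psi_X_pRoot hV hW, psi_X_pRoot hV hW, psi_X_pRoot hV hW, hki,
    ← hjdef, ← hkdef] at e0
  have e1 : psi hV v3 * X hW.good (pRoot hW k) t2 * X hW.good (pRoot hW j) t *
      X hW.good (pRoot hW i) t3 =
      v3 * X hW.good (pRoot hW k) t3 * X hW.good (pRoot hW j) t2 * X hW.good (pRoot hW i) t := by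
    rw [← e0, mul_assoc (psi hV v3), mul_assoc (psi hV v3), mul_assoc (psi hV v3),
      mul_assoc (psi hV v3)]
    congr 1
    rw [← ((cik t3 t2).mul_right (cij t3 t)).eq, mul_assoc]
  have h31 : t3 = t := split_unique hW i
    (mul_mem (mul_mem hψi (memC i k nik.symm t2)) (memC i j nji t))
    (mul_mem (mul_mem hv3i (memC i k nik.symm t3)) (memC i j nji t2)) e1
  rw [h31, mul_left_inj] at e1
  have h12 : t = t2 := split_unique hW j (mul_mem hψj (memC j k nkj t2))
    (mul_mem hv3j (memC j k nkj t)) e1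
  subst h31
  subst h12
  refine ⟨t3, ?_⟩
  rw [orbEl_pRoot hV hW h, orbN, if_neg h, ← hjdef, ← hkdef]
  rw [show v3 * X hW.good (pRoot hW k) t3 * X hW.good (pRoot hW j) t3 *
      X hW.good (pRoot hW i) t3 = v3 * (X hW.good (pRoot hW i) t3 *
        (X hW.good (pRoot hW j) t3 * X hW.good (pRoot hW k) t3)) by
    rw [((cij t3 t3).mul_right (cik t3 t3)).eq, (cjk t3 t3).eq]; simp only [mul_assoc],
    mul_inv_cancel_right]
  obtain ⟨fij, fji⟩ := wPerm_node_fix hV hW h
  obtain ⟨-, fkj⟩ := wPerm_node_fix hV hW hj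
  obtain ⟨fki, -⟩ := wPerm_node_fix hV hW hk
  rw [hki] at fki
  rw [← hjdef] at fij fji
  rw [← hkdef] at fkj
  have z : ∀ {a : Fin D.rank} {w : GL D.Idx F}, w ∈ rootGen hW.good F (posCompl hW a) →
      ∀ l, (w : Matrix D.Idx D.Idx F) (Sum.inl l) (Sum.inr (pRoot hW a).rev) = 0 :=
    fun hw => (ChevSubfield.posCompl_entries hW _ hw).2
  have w1 : nR hW k * v3 * (nR hW k)⁻¹ ∈ D.posUnipotent F :=
    rootGen_posCompl_le hW k (nR_conj_posCompl hW k hv3)
  have w1j := mem_posCompl_of_entry hW j w1 (entry_conj hW fkj (z hv3j))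
  have w1i := mem_posCompl_of_entry hW i w1 (entry_conj hW fki (z hv3i))
  have w2i := mem_posCompl_of_entry hW i (rootGen_posCompl_le hW j (nR_conj_posCompl hW j w1j))
    (entry_conj hW fji (z w1i))
  rw [show ∀ a b c x : GL D.Idx F, a * b * c * x * (a * b * c)⁻¹ =
    a * (b * (c * x * c⁻¹) * b⁻¹) * a⁻¹ from fun a b c x => by group]
  exact rootGen_posCompl_le hW i (nR_conj_posCompl hW i w2i)

theorem pos_le_neg (hW : GoodWeyl D) {n : GL D.Idx F} {π : Equiv.Perm (Root D)}
    (hn : MonBy hW n π) (hπ : ∀ r : Root D, half D ≤ r → (π⁻¹ r : ℕ) < half D) {u : GL D.Idx F}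
    (hu : u ∈ D.posUnipotent F) : n⁻¹ * u * n ∈ D.negUnipotent F := by
  rw [posUnipotent_eq_rootGen hW.good] at hu
  induction hu using Subgroup.closure_induction with
  | mem x hx =>
    obtain ⟨r, hr, t, rfl⟩ := hx
    obtain ⟨c, hc⟩ := hn.inv.conj_X r
    rw [inv_inv] at hc
    rw [hc, negUnipotent_eq hW.good]
    have h1 := hπ r hr
    have h2 := hW.good.two_half
    exact X_mem_uGe hW.good (b := true)
      (by simp only [key, if_true, Fin.val_rev]; omega)
      (by simp only [key, if_true, Fin.val_rev]; omega) _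
  | one => simp
  | mul x y _ _ hx hy =>
    rw [show n⁻¹ * (x * y) * n = (n⁻¹ * x * n) * (n⁻¹ * y * n) by group]
    exact mul_mem hx hy
  | inv x _ hx =>
    rw [show n⁻¹ * x⁻¹ * n = (n⁻¹ * x * n)⁻¹ by group]
    exact inv_mem hx

theorem chain_aux (hW : GoodWeyl D) : ∀ (L : List ℕ) (q : List ℕ) (n : GL D.Idx F)
    (π : Equiv.Perm (Root D)), n ∈ sFix hV hW F → MonBy hW n π →
    (∀ r : Root D, q.getD r 0 = (π⁻¹ r : ℕ)) → T.chkChain D L q = true →
    (∀ u ∈ D.posUnipotent F, psi hV u = u → n⁻¹ * u * n ∈ D.posUnipotent F → u ∈ sFix hV hW F) ∧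
      ∃ m ∈ sFix hV hW F, ∀ u ∈ D.posUnipotent F, m⁻¹ * u * m ∈ D.negUnipotent F := by
  intro L
  induction L with
  | nil =>
    intro q n π hn hmon hq hchk
    simp only [Tables.chkChain, List.all_eq_true, List.mem_range'_1, decide_eq_true_eq] at hchk
    have hπ : ∀ r : Root D, half D ≤ r → (π⁻¹ r : ℕ) < half D := fun r hr => by
      rw [← hq r]; exact hchk r ⟨hr, by omega⟩
    refine ⟨fun u hu _ hun => ?_, n, hn, fun u hu => pos_le_neg hV hW hmon hπ hu⟩
    have h1 : n⁻¹ * u * n ∈ D.borelSubgroup F ⊓ D.negUnipotent F :=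
      ⟨pos_le_borel D hun, pos_le_neg hV hW hmon hπ hu⟩
    rw [borel_inf_neg hW, Subgroup.mem_bot] at h1
    rw [show u = n * (n⁻¹ * u * n) * n⁻¹ by group, h1]
    simp
  | cons i L ih =>
    intro q n π hn hmon hq hchk
    simp only [Tables.chkChain, Bool.and_eq_true, decide_eq_true_eq] at hchk
    obtain ⟨⟨⟨⟨hi, hqi⟩, hqj⟩, hqk⟩, hrest⟩ := hchk
    set k : Fin D.rank := ⟨i, hi⟩
    have key := ih _ (orbN hV hW k * n) _ (mul_mem (orbN_mem hV hW k) hn)
      ((monBy_orbN hV hW k).mul hmon) (fun r => ?_) hrest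
    · refine ⟨fun u hu hf hun => ?_, key.2⟩
      obtain ⟨t, ht⟩ := exists_strip hV hW k hu hf
      set s := orbEl hV hW (pRoot hW k) t with hs
      have hsn : n⁻¹ * s * n ∈ D.posUnipotent F := by
        have one : ∀ (r : Root D), half D ≤ q.getD r 0 → ∀ t : F,
            n⁻¹ * X hW.good r t * n ∈ D.posUnipotent F := fun r hr t => by
          rw [hq] at hr
          obtain ⟨c, hc⟩ := hmon.inv.conj_X r
          rw [inv_inv] at hc
          rw [hc]
          exact X_mem_pos hW.good hr _
        rw [hs]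
        by_cases hk : nodeP hV k = k
        · rw [orbEl, if_pos (by rw [rootP_pRoot hV hW, hk])]
          exact one _ hqi t
        · rw [orbEl_pRoot hV hW hk, show ∀ a b c : GL D.Idx F, n⁻¹ * (a * (b * c)) * n =
            (n⁻¹ * a * n) * ((n⁻¹ * b * n) * (n⁻¹ * c * n)) from fun a b c => by group]
          exact mul_mem (one _ hqi t) (mul_mem (one _ hqj t) (one _ hqk t))
      have hmem := key.1 _ ht (by
        rw [map_mul, map_mul, map_mul, map_inv, map_inv, psi_sFix hV hW (orbN_mem hV hW k), hf,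
          psi_orbEl]) (by
        have := mul_mem hun (inv_mem hsn)
        convert this using 1
        group)
      have := mul_mem (mul_mem (mul_mem (inv_mem (orbN_mem hV hW k (F := F))) hmem)
        (orbN_mem hV hW k)) (orbEl_mem hV hW (pRoot hW k) t)
      rw [← hs] at this
      convert this using 1
      group
    · have winv : ∀ a (r : Root D), (wPerm hW a)⁻¹ r = wPerm hW a r := fun a r =>
        (wPerm hW a).injective (((wPerm hW a).apply_symm_apply r).trans (hW.wPerm_wPerm a r).symm)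
      rw [Tables.stepQ, List.getD_eq_getElem?_getD, List.getElem?_map,
        List.getElem?_range r.isLt, Option.map_some, Option.getD_some, mul_inv_rev,
        Equiv.Perm.mul_apply]
      by_cases h : nodeP hV k = k
      · have h' : T.node i = i := congrArg Fin.val h
        rw [if_pos h, beq_iff_eq.2 h', cond_true, winv, ← hq]
        rfl
      · have h' : T.node i ≠ i := fun e => h (Fin.ext e)
        rw [if_neg h, beq_false_of_ne h', cond_false, mul_inv_rev, mul_inv_rev,
          Equiv.Perm.mul_apply, Equiv.Perm.mul_apply, winv, winv, winv, ← hq]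
        rfl

theorem chain_top (hW : GoodWeyl D) :
    (∀ u ∈ D.posUnipotent F, psi hV u = u → u ∈ sFix hV hW F) ∧
      ∃ m ∈ sFix hV hW F, ∀ u ∈ D.posUnipotent F, m⁻¹ * u * m ∈ D.negUnipotent F := by
  obtain ⟨h1, h2⟩ := chain_aux (F := F) hV hW T.word (List.range D.nroots) 1 1 (one_mem _)
    (MonBy.one hW) (fun r => by simp [List.getD_eq_getElem?_getD]) hV.chain
  exact ⟨fun u hu hf => h1 u hu hf (by simpa using hu), h2⟩

end CfsgLib.D4Fold
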